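import Cfsg.Agent.Nodes.WittInst
import Cfsg.Agent.H40.OC.Cor_m3
import Cfsg.Agent.H40.Ch.Data_m3
import Cfsg.Agent.H148.GG.Par
import Cfsg.Agent.Nodes.SimplyLaced
import Mathlib.Algebra.QuadraticAlgebra.Basic
import Mathlib.FieldTheory.Finite.Basic
import Mathlib.Tactic
import Cfsg.Agent.OddHalf.DblR.MinusTor
import Cfsg.Agent.Mrg.Omega.EH3.Kf.TableAll
import Cfsg.Agent.H379.GG.PGL_m3
import Cfsg.Agent.H319.PQ.Cosets_m3
import Cfsg.Agent.H439.CC.Mult_m3
import Cfsg.Agent.H845.OC.Odd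
import Cfsg.Agent.H712.OC.Lam
import Cfsg.Agent.FastGrp
import Cfsg.Agent.Prune
set_option linter.all false

section
prune_inst 0x7fb0fdf84fa8a5dfffff7fbff6dfcff9f5a9afffe6dffd4b7fe8e98f0bdf4b08cdc56b8d0be010fe1fc3e01454f87b03fffffeffe06bfc7ffffd5ff41ffbffcfedf6350851dc8cb40f382ff683f0778e7f3fffffffffffffffffffffffffffbeffbfffffffff

-- part: H151/OwnO/PlusRow_mg
section
prune_inst 0x4002002014000000000040000000040800100000000000000000600000108000000000000140000000000000000090000000000200000000000000400000100000880100020000000000000000000000000000000000000000000000000000000000000000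
set_option linter.all false
open scoped Cfsg.Agent.FastGrp

-- part: H151/OwnO/Plus
section
/-!
# The frame of `Ω⁺_{2m}(F)`, `F` finite of characteristic two (S4884, own characteristic; helper151)

`Q` a hyperbolic form with Witt frame `W`, `E Q` the group generated by the Siegel elements (in characteristic two
`E Q = PΩ⁺(Q)`).

* `TE`, `XE` : the torus and the root groups of `E Q`; `rgdE` : the root group datum;
* `adjE` : the coordinates of the simple root groups (helper148's `Adj`), `T → (Fˣ)^m` is surjective in characteristic two;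
* `rigidE`, `commE`, `GG_E`;
* `antiE` : the anti-automorphism `g ↦ J g⁻¹ J⁻¹`, `J` exchanging `e_i` and `f_i`.
-/

set_option autoImplicit false
set_option linter.unusedSectionVars false
set_option linter.unusedFintypeInType false

namespace Cfsg.Agent.H151.OwnO

open Cfsg QuadraticMap Cfsg.Agent.Nodes
open Cfsg.Agent.ChevalleyStructure.CoxeterGeom Cfsg.Agent.Tits.Roots Cfsg.Agent.Tits.Core
open Cfsg.Agent.Nodes.Comb Cfsg.Agent.Nodes.Reps Cfsg.Agent.Nodes.BNOf Cfsg.Agent.Nodes.RGDLib Cfsg.Agent.Nodes.Bruhat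
open Cfsg.Agent.Nodes.WittRoot (Mono Amb XG)
open Cfsg.Agent.Nodes.WittRGD (Tor mem_Tor b_ne_zero Amb.eq_one_of_fix)
open Cfsg.Agent.Nodes.WittAll Cfsg.Agent.Nodes.WittInst
open Cfsg.Agent.Nodes.TypeD
open Cfsg.Agent.TitsThree Cfsg.Agent.TitsThree.Siegel Cfsg.Agent.TitsThree.SiegelGen
  Cfsg.Agent.TitsThree.WittFrame Cfsg.Agent.TitsThree.WBridge Cfsg.Agent.TitsThree.WittWeyl
  Cfsg.Agent.TitsThree.KSideO
open Cfsg.Agent.LieClassical Cfsg.Agent.LieClassical.OrthCore Cfsg.Agent.LieClassical.OrthForms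
open Cfsg.Agent.H148.GG

section General

variable {ι : Type} [Fintype ι] [DecidableEq ι] {F : Type*} [Field F] {Q : QuadraticForm F (ι → F)} {n : ℕ}
  (W : WFrame (PO Q) (n + 2))

/-- the torus of `E Q` -/
def TE : Subgroup ↥(E Q) := (Tor (toFrame W) (E Q)).subgroupOf (E Q)

/-- the root groups of `E Q` -/
def XE (x : Fin (n + 2) → ℤ) : Subgroup ↥(E Q) := (WittRGDD.rg (toFrame W) x).subgroupOf (E Q)

omit [Fintype ι] [DecidableEq ι] in
theorem eta (x : Fin (n + 2) × Bool) : (toFrame W).η x = 1 := by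
  unfold Frame.η
  split_ifs <;> rfl

/-- the Weyl elements of `E Q` -/
noncomputable def nE (hA : Amb (toFrame W) (E Q)) (i : Fin (n + 2)) : ↥(E Q) :=
  ⟨WittRGDD.nn (toFrame W) i, WittRGDD.nn_mem hA i⟩

omit [DecidableEq ι] in
/-- **the root group datum of `E Q`** -/
theorem rgdE [Finite F] (hA : Amb (toFrame W) (E Q)) (h0 : ∀ p : (toFrame W).Adm, p = 1) {p : ℕ}
    [Fact p.Prime] [CharP F p] {G : Type*} [Group G] (cs : CoxeterSystem (M n) G) :
    RGD cs (isCartan n) p (TE W) (nE W hA) (XE W) :=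
  rgd_restrict (rgdD hA h0 cs) (E Q) (fun x _ => rgD_le W hA x) (fun i => WittRGDD.nn_mem hA i)

/-! ### coordinates of the simple root groups -/

/-- the coordinate of a simple root element -/
def cx (i : Fin (n + 2)) (g : (ι → F) ≃ₗ[F] (ι → F)) : F :=
  polar Q (g ((toFrame W).b (neg (nx i)))) ((toFrame W).b (i, false))

omit [Fintype ι] [DecidableEq ι] in
theorem cx_X (i : Fin (n + 2)) (t : F) : cx W i ((toFrame W).X (i, true) (nx i) t) = t := by
  unfold cx
  rw [X_apply_neg (toFrame W) (ok_nx i)]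
  have h1 : (HO Q).h ((toFrame W).b (neg (nx i))) ((toFrame W).b (i, false)) = 0 :=
    (toFrame W).hb_of_ne (Ne.symm (ok_nx i))
  have h2 : (HO Q).h ((toFrame W).b (i, true)) ((toFrame W).b (i, false)) = 1 := by
    have := (toFrame W).hb_self_neg (i, true)
    rw [eta] at this
    exact this
  show (HO Q).h _ _ = t
  rw [HForm.add_left, HForm.smul_left, h1, h2, zero_add, mul_one]

omit [Fintype ι] [DecidableEq ι] in
theorem exists_coord {i : Fin (n + 2)} {u : ↥(E Q)} (hu : u ∈ XE W (sr i)) :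
    ∃ t, (u : (ι → F) ≃ₗ[F] (ι → F)) = (toFrame W).X (i, true) (nx i) t := by
  have h1 : (u : (ι → F) ≃ₗ[F] (ι → F)) ∈ WittRGDD.rg (toFrame W) (sr i) := hu
  rwa [WittRGDD.rg_sr] at h1

omit [Fintype ι] [DecidableEq ι] in
theorem eq_X {i : Fin (n + 2)} {u : ↥(E Q)} (hu : u ∈ XE W (sr i)) :
    (u : (ι → F) ≃ₗ[F] (ι → F)) = (toFrame W).X (i, true) (nx i) (cx W i u) := by
  obtain ⟨t, ht⟩ := exists_coord W hu
  rw [ht, cx_X]

/-- the coordinate homomorphism -/
def xE (i : Fin (n + 2)) : ↥(XE W (sr i)) →* Multiplicative F where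
  toFun u := Multiplicative.ofAdd (cx W i (u : ↥(E Q)))
  map_one' := by
    have h1 := cx_X W i 0
    rw [Frame.X_zero] at h1
    show Multiplicative.ofAdd (cx W i 1) = 1
    rw [h1]
    rfl
  map_mul' u v := by
    have h1 := eq_X W u.2
    have h2 := eq_X W v.2
    show Multiplicative.ofAdd (cx W i ((u : ↥(E Q)).1 * (v : ↥(E Q)).1)) = _
    rw [h1, h2, ← Frame.X_add, cx_X, cx_X, cx_X]
    rfl

/-! ### the characters of the torus -/

/-- the eigenvalue on `b x` -/
def ev (x : Fin (n + 2) × Bool) (g : (ι → F) ≃ₗ[F] (ι → F)) : F :=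
  polar Q (g ((toFrame W).b x)) ((toFrame W).b (neg x))

omit [Fintype ι] [DecidableEq ι] in
theorem ev_of {x : Fin (n + 2) × Bool} {g : (ι → F) ≃ₗ[F] (ι → F)} {l : F}
    (hg : g ((toFrame W).b x) = l • (toFrame W).b x) : ev W x g = l := by
  unfold ev
  rw [hg]
  show (HO Q).h _ _ = l
  rw [HForm.smul_left, (toFrame W).hb_self_neg, eta, mul_one]

omit [Fintype ι] [DecidableEq ι] in
theorem apply_b {t : ↥(E Q)} (ht : t ∈ TE W) (x : Fin (n + 2) × Bool) :
    t.1 ((toFrame W).b x) = ev W x t.1 • (toFrame W).b x := by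
  obtain ⟨l, -, e⟩ := (Subgroup.mem_subgroupOf.1 ht : _ ∈ Tor (toFrame W) (E Q)).2 x
  have e' : t.1 ((toFrame W).b x) = l • (toFrame W).b x := e
  rw [ev_of W e', e']

/-- the eigenvalue as a homomorphism -/
def evM (x : Fin (n + 2) × Bool) : ↥(TE W) →* F where
  toFun t := ev W x (t : ↥(E Q)).1
  map_one' := ev_of W (by rw [one_smul]; rfl)
  map_mul' s t := by
    refine ev_of W ?_
    show (s : ↥(E Q)).1 ((t : ↥(E Q)).1 ((toFrame W).b x)) = _
    rw [apply_b W t.2, map_smul, apply_b W s.2, smul_smul, mul_comm]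

/-- the same with values in the units -/
def evU (x : Fin (n + 2) × Bool) : ↥(TE W) →* Fˣ := (evM W x).toHomUnits

omit [Fintype ι] [DecidableEq ι] in
theorem coe_evU (x : Fin (n + 2) × Bool) (t : ↥(TE W)) : (evU W x t : F) = ev W x (t : ↥(E Q)).1 := rfl

omit [Fintype ι] [DecidableEq ι] in
theorem ev_mul_ev_neg (x : Fin (n + 2) × Bool) (t : ↥(TE W)) : evU W x t * evU W (neg x) t = 1 := by
  apply Units.ext
  simp only [Units.val_mul, coe_evU, coe_evU, Units.val_one]
  have h1 : (HO Q).h ((t : ↥(E Q)).1 ((toFrame W).b x)) ((t : ↥(E Q)).1 ((toFrame W).b (neg x))) =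
      (HO Q).h ((toFrame W).b x) ((toFrame W).b (neg x)) := polar_map (E_le_O (t : ↥(E Q)).2) _ _
  rw [apply_b W t.2, apply_b W t.2, HForm.smul_left, HForm.smul_right, (toFrame W).hb_self_neg, eta, mul_one] at h1
  rw [← h1]
  rfl

omit [Fintype ι] [DecidableEq ι] in
theorem evU_neg (x : Fin (n + 2) × Bool) (t : ↥(TE W)) : evU W (neg x) t = (evU W x t)⁻¹ :=
  eq_inv_of_mul_eq_one_right (ev_mul_ev_neg W x t)

omit [Fintype ι] [DecidableEq ι] in
theorem conj_simple (i : Fin (n + 2)) {t : ↥(E Q)} (ht : t ∈ TE W) (s : F) :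
    t.1 * (toFrame W).X (i, true) (nx i) s * t.1⁻¹ =
      (toFrame W).X (i, true) (nx i) (ev W (i, true) t.1 * ev W (nx i) t.1 * s) := by
  have h1 : (HO Q).IsIso t.1 := fun v w => polar_map (E_le_O t.2) v w
  have h2 := conj_X (toFrame W) h1 (ok_nx i) (ok_nx i) (apply_b W ht (i, true)) (apply_b W ht (nx i)) s
  rw [h2, eta]
  congr 1
  show _ * (RingEquiv.refl F) _ * (1 : F)⁻¹ * 1 * s = _
  rw [RingEquiv.refl_apply, inv_one, mul_one, mul_one]

/-! ### diagonal elements -/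

omit [Fintype ι] [DecidableEq ι] in
theorem V0_eq_zero (h0 : ∀ p : (toFrame W).Adm, p = 1) {w : ι → F} (hw : w ∈ (toFrame W).V0) : w = 0 :=
  congrArg Frame.Adm.w (h0 ⟨w, -Q w, hw, rfl⟩)

omit [DecidableEq ι] in
/-- elements of `E Q` which agree on the frame are equal -/
theorem ext_b (hA : Amb (toFrame W) (E Q)) (h0 : ∀ p : (toFrame W).Adm, p = 1) {g g' : ↥(E Q)}
    (e : ∀ x, g.1 ((toFrame W).b x) = g'.1 ((toFrame W).b x)) : g = g' := by
  have h1 : g'⁻¹ * g = 1 := by
    apply Subtype.ext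
    refine Amb.eq_one_of_fix hA (fun x => ?_) (fun w hw => ?_)
    · show g'.1⁻¹ (g.1 _) = _
      rw [e]
      exact g'.1.symm_apply_apply _
    · rw [V0_eq_zero W h0 hw, _root_.LinearEquiv.map_zero]
  exact (inv_mul_eq_one.1 h1).symm

/-- `nX x y r * (nX x y 1)⁻¹` -/
noncomputable def hX (hA : Amb (toFrame W) (E Q)) (x y : Fin (n + 2) × Bool) (r : F) : ↥(E Q) :=
  ⟨nX (toFrame W) x y r * (nX (toFrame W) x y 1)⁻¹, mul_mem (WittRGDD.nX_mem hA _ _ _) (inv_mem (WittRGDD.nX_mem hA _ _ _))⟩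

omit [Fintype ι] [DecidableEq ι] in
theorem hX_x (hA : Amb (toFrame W) (E Q)) {x y : Fin (n + 2) × Bool} (h : x.1 ≠ y.1) {r : F} (hr : r ≠ 0) :
    (hX W hA x y r).1 ((toFrame W).b x) = r • (toFrame W).b x := by
  have h1 := nX_apply_neg (toFrame W) h (one_ne_zero (α := F))
  rw [one_smul] at h1
  have h2 : (nX (toFrame W) x y 1)⁻¹ ((toFrame W).b x) = (toFrame W).b (neg y) := by
    rw [← h1]
    exact LinearEquiv.symm_apply_apply _ _
  show nX (toFrame W) x y r ((nX (toFrame W) x y 1)⁻¹ ((toFrame W).b x)) = _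
  rw [h2, nX_apply_neg (toFrame W) h hr]

omit [Fintype ι] [DecidableEq ι] in
theorem hX_neg (hA : Amb (toFrame W) (E Q)) {x y : Fin (n + 2) × Bool} (h : x.1 ≠ y.1) {r : F} (hr : r ≠ 0) :
    (hX W hA x y r).1 ((toFrame W).b (neg y)) = r⁻¹ • (toFrame W).b (neg y) := by
  have h1 := nX_apply_self (toFrame W) h (one_ne_zero (α := F))
  rw [inv_one, one_smul] at h1
  have h2 : (nX (toFrame W) x y 1)⁻¹ ((toFrame W).b (neg y)) = -(toFrame W).b x := by
    have h3 : (toFrame W).b (neg y) = nX (toFrame W) x y 1 (-(toFrame W).b x) := by rw [map_neg, h1, _root_.neg_neg]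
    conv_lhs => rw [h3]
    exact LinearEquiv.symm_apply_apply _ _
  show nX (toFrame W) x y r ((nX (toFrame W) x y 1)⁻¹ ((toFrame W).b (neg y))) = _
  rw [h2, map_neg, nX_apply_self (toFrame W) h hr, _root_.neg_neg]

omit [Fintype ι] [DecidableEq ι] in
theorem hX_of_ne (hA : Amb (toFrame W) (E Q)) {x y z : Fin (n + 2) × Bool} (h : x.1 ≠ y.1) (h1 : z.1 ≠ x.1)
    (h2 : z.1 ≠ y.1) (r : F) : (hX W hA x y r).1 ((toFrame W).b z) = (toFrame W).b z := by
  have h3 := nX_apply_of_ne (toFrame W) h h1 h2 1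
  have h4 : (nX (toFrame W) x y 1)⁻¹ ((toFrame W).b z) = (toFrame W).b z := by
    conv_lhs => rw [← h3]
    exact LinearEquiv.symm_apply_apply _ _
  show nX (toFrame W) x y r ((nX (toFrame W) x y 1)⁻¹ ((toFrame W).b z)) = _
  rw [h4, nX_apply_of_ne (toFrame W) h h1 h2]

omit [Fintype ι] [DecidableEq ι] in
theorem cst (x y : Fin (n + 2) × Bool) (t : F) :
    (HO Q).ε⁻¹ * (toFrame W).η x * (toFrame W).η y * (HO Q).σ t = t := by
  rw [eta, eta]
  show (1 : F)⁻¹ * 1 * 1 * (RingEquiv.refl F) t = t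
  rw [inv_one, mul_one, mul_one, one_mul, RingEquiv.refl_apply]

omit [Fintype ι] [DecidableEq ι] in
theorem hX_y (hA : Amb (toFrame W) (E Q)) {x y : Fin (n + 2) × Bool} (h : x.1 ≠ y.1) {r : F} (hr : r ≠ 0) :
    (hX W hA x y r).1 ((toFrame W).b y) = r • (toFrame W).b y := by
  have h1 := nX_apply_neg' (toFrame W) h (one_ne_zero (α := F))
  rw [cst, one_smul] at h1
  have h2 : (nX (toFrame W) x y 1)⁻¹ ((toFrame W).b y) = -(toFrame W).b (neg x) := by
    have h3 : (toFrame W).b y = nX (toFrame W) x y 1 (-(toFrame W).b (neg x)) := by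
      rw [map_neg, h1, _root_.neg_neg]
    conv_lhs => rw [h3]
    exact LinearEquiv.symm_apply_apply _ _
  show nX (toFrame W) x y r ((nX (toFrame W) x y 1)⁻¹ ((toFrame W).b y)) = _
  rw [h2, map_neg, nX_apply_neg' (toFrame W) h hr, cst, _root_.neg_neg]

omit [Fintype ι] [DecidableEq ι] in
theorem hX_neg_x (hA : Amb (toFrame W) (E Q)) {x y : Fin (n + 2) × Bool} (h : x.1 ≠ y.1) {r : F} (hr : r ≠ 0) :
    (hX W hA x y r).1 ((toFrame W).b (neg x)) = r⁻¹ • (toFrame W).b (neg x) := by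
  have h1 := nX_apply_self' (toFrame W) h (one_ne_zero (α := F))
  rw [cst, inv_one, one_smul] at h1
  have h2 : (nX (toFrame W) x y 1)⁻¹ ((toFrame W).b (neg x)) = (toFrame W).b y := by
    rw [← h1]
    exact LinearEquiv.symm_apply_apply _ _
  show nX (toFrame W) x y r ((nX (toFrame W) x y 1)⁻¹ ((toFrame W).b (neg x))) = _
  rw [h2, nX_apply_self' (toFrame W) h hr, cst]

omit [Fintype ι] [DecidableEq ι] in
theorem hX_mem (hA : Amb (toFrame W) (E Q)) {x y : Fin (n + 2) × Bool} (h : x.1 ≠ y.1) {r : F} (hr : r ≠ 0) :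
    hX W hA x y r ∈ TE W := by
  refine Subgroup.mem_subgroupOf.2 ⟨(hX W hA x y r).2, fun z => ?_⟩
  by_cases h1 : z.1 = x.1
  · rcases WittRGD.eq_or_ng h1 with rfl | rfl
    · exact ⟨r, hr, hX_x W hA h hr⟩
    · exact ⟨r⁻¹, inv_ne_zero hr, hX_neg_x W hA h hr⟩
  by_cases h2 : z.1 = y.1
  · rcases WittRGD.eq_or_ng h2 with rfl | rfl
    · exact ⟨r, hr, hX_y W hA h hr⟩
    · exact ⟨r⁻¹, inv_ne_zero hr, hX_neg W hA h hr⟩
  refine ⟨1, one_ne_zero, ?_⟩
  rw [one_smul]
  exact hX_of_ne W hA h h1 h2 r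

/-! ### the torus in characteristic two -/

omit [Fintype ι] [DecidableEq ι] in
theorem exists_single [Finite F] [CharP F 2] (hA : Amb (toFrame W) (E Q)) (k : Fin (n + 2)) (s : Fˣ) :
    ∃ t : ↥(TE W), ∀ j, evU W (j, true) t = Pi.mulSingle (M := fun _ => Fˣ) k s j := by
  obtain ⟨j, hj⟩ := exists_ne k
  obtain ⟨r, hr⟩ := FiniteField.isSquare_of_char_two (ringChar.eq_iff.2 ‹CharP F 2›) (s : F)
  have hr0 : r ≠ 0 := by
    rintro rfl
    rw [mul_zero] at hr
    exact s.ne_zero hr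
  have h1 : ((k, true) : Fin (n + 2) × Bool).1 ≠ ((j, false) : Fin (n + 2) × Bool).1 := Ne.symm hj
  have h2 : ((k, true) : Fin (n + 2) × Bool).1 ≠ ((j, true) : Fin (n + 2) × Bool).1 := Ne.symm hj
  refine ⟨⟨hX W hA (k, true) (j, false) r * hX W hA (k, true) (j, true) r,
    mul_mem (hX_mem W hA h1 hr0) (hX_mem W hA h2 hr0)⟩, fun l => ?_⟩
  apply Units.ext
  rw [coe_evU]
  refine ev_of W ?_
  show (hX W hA (k, true) (j, false) r).1 ((hX W hA (k, true) (j, true) r).1 _) = _
  by_cases hk : l = k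
  · subst hk
    simp only [Pi.mulSingle_eq_same, hX_x W hA h2 hr0, map_smul, hX_x W hA h1 hr0, smul_smul, hr]
  rw [Pi.mulSingle_eq_of_ne hk, Units.val_one, one_smul]
  by_cases hl : l = j
  · subst hl
    have h3 := hX_neg W hA h1 hr0
    have h4 : neg ((l, false) : Fin (n + 2) × Bool) = (l, true) := rfl
    rw [h4] at h3
    rw [hX_y W hA h2 hr0, map_smul, h3, smul_smul, mul_inv_cancel₀ hr0, one_smul]
  · rw [hX_of_ne W hA (z := (l, true)) h2 hk hl, hX_of_ne W hA (z := (l, true)) h1 hk hl]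

omit [Fintype ι] [DecidableEq ι] in
theorem exists_diag [Finite F] [CharP F 2] (hA : Amb (toFrame W) (E Q)) (d : Fin (n + 2) → Fˣ) :
    ∃ t : ↥(TE W), ∀ j, evU W (j, true) t = d j := by
  let f : ↥(TE W) →* (Fin (n + 2) → Fˣ) := MonoidHom.pi fun j => evU W (j, true)
  have h1 : d ∈ f.range := by
    rw [← Finset.univ_prod_mulSingle d]
    refine Subgroup.prod_mem _ fun k _ => ?_
    obtain ⟨t, ht⟩ := exists_single W hA k (d k)
    exact ⟨t, funext ht⟩
  obtain ⟨t, ht⟩ := h1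
  exact ⟨t, fun j => congrFun ht j⟩

/-- the characters of the torus given by the simple roots -/
def aE (i : Fin (n + 2)) : ↥(TE W) →* Fˣ := evU W (i, true) * evU W (nx i)

omit [Fintype ι] [DecidableEq ι] in
theorem aE_apply (i : Fin (n + 2)) (t : ↥(TE W)) : aE W i t = evU W (i, true) t * evU W (nx i) t := rfl

omit [Fintype ι] [DecidableEq ι] in
theorem aE_up (i : Fin (n + 2)) (hi : (i : ℕ) + 1 < n + 2) (t : ↥(TE W)) :
    aE W i t = evU W (i, true) t * (evU W (⟨i + 1, hi⟩, true) t)⁻¹ := by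
  simp only [aE_apply, ← evU_neg]
  unfold nx
  simp only [dif_pos hi]
  rfl

omit [Fintype ι] [DecidableEq ι] in
theorem aE_last (i : Fin (n + 2)) (hi : ¬ (i : ℕ) + 1 < n + 2) (t : ↥(TE W)) :
    aE W i t = evU W (i, true) t * evU W (pd n, true) t := by
  simp only [aE_apply]
  unfold nx
  simp only [dif_neg hi]

omit [Fintype ι] [DecidableEq ι] in
/-- the torus acts on the simple root groups by all tuples of scalars -/
theorem surj_aE [Finite F] [CharP F 2] (hA : Amb (toFrame W) (E Q)) (c : Fin (n + 2) → Fˣ) :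
    ∃ t : ↥(TE W), ∀ i, aE W i t = c i := by
  let c' : ℕ → Fˣ := fun j => if h : j < n + 2 then c ⟨j, h⟩ else 1
  have hc' : ∀ i : Fin (n + 2), c' i = c i := fun i => dif_pos i.2
  obtain ⟨q0, hq0⟩ := FiniteField.isSquare_of_char_two (ringChar.eq_iff.2 ‹CharP F 2›) ((c' (n + 1) * (c' n)⁻¹ : Fˣ) : F)
  have hq00 : q0 ≠ 0 := by
    rintro rfl
    rw [mul_zero] at hq0
    exact (c' (n + 1) * (c' n)⁻¹).ne_zero hq0
  let q : Fˣ := Units.mk0 q0 hq00
  have hq : q * q = c' (n + 1) * (c' n)⁻¹ := Units.ext hq0.symm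
  let d : ℕ → Fˣ := fun i => (∏ j ∈ Finset.Ico i (n + 1), c' j) * q
  have hd : ∀ i, i < n + 1 → d i = c' i * d (i + 1) := by
    intro i hi
    show (∏ j ∈ Finset.Ico i (n + 1), c' j) * q = c' i * ((∏ j ∈ Finset.Ico (i + 1) (n + 1), c' j) * q)
    rw [Finset.prod_eq_prod_Ico_succ_bot hi, mul_assoc]
  have hd1 : d (n + 1) = q := by
    show (∏ j ∈ Finset.Ico (n + 1) (n + 1), c' j) * q = q
    rw [Finset.Ico_self, Finset.prod_empty, one_mul]
  obtain ⟨t, ht⟩ := exists_diag W hA fun i => d i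
  refine ⟨t, fun i => ?_⟩
  by_cases hi : (i : ℕ) + 1 < n + 2
  · (rewrite [aE_up W i hi]; (conv => enter [@2, @5]; rw [ht]); rewrite [ht, ← hc', hd i (by omega)])
    exact mul_inv_cancel_right _ _
  · have h1 : (i : ℕ) = n + 1 := by omega
    have h2 : ((pd n : Fin (n + 2)) : ℕ) = n := rfl
    rw [aE_last W i hi, ht, ht, ← hc', h1, h2, hd n (by omega), hd1, mul_left_comm, hq, mul_comm, inv_mul_cancel_right]

omit [Fintype ι] [DecidableEq ι] in
/-- the act of the torus on the simple root groups -/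
theorem act_eq (i : Fin (n + 2)) (t : ↥(TE W)) {u : ↥(E Q)} (hu : u ∈ XE W (sr i)) :
    ((t : ↥(E Q)) * u * (t : ↥(E Q))⁻¹).1 = (toFrame W).X (i, true) (nx i) ((aE W i t : F) * cx W i u.1) := by
  have h1 := eq_X W hu
  have h2 := conj_simple W i t.2 (cx W i u.1)
  rw [← h1] at h2
  exact h2

/-- **the coordinates of `Ω⁺` in characteristic two** -/
def adjE [Finite F] [CharP F 2] (hA : Amb (toFrame W) (E Q)) : H148.GG.Adj (TE W) (XE W) (fun _ => F) where
  x := xE W
  a := aE W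
  surjX i s := by
    refine ⟨⟨⟨(toFrame W).X (i, true) (nx i) (Multiplicative.toAdd s), X_mem W _ _ _⟩, ?_⟩, ?_⟩
    · show (toFrame W).X (i, true) (nx i) (Multiplicative.toAdd s) ∈ WittRGDD.rg (toFrame W) (sr i)
      rw [WittRGDD.rg_sr]
      exact ⟨_, rfl⟩
    · exact congrArg Multiplicative.ofAdd (cx_X W i _)
  act i t u hu := by
    have h1 := act_eq W i t u.2
    show cx W i ((t : ↥(E Q)) * (u : ↥(E Q)) * (t : ↥(E Q))⁻¹).1 = _
    rw [h1, cx_X]
    rfl
  lin i ψ u hu := by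
    have h1 : cx W i (u : ↥(E Q)).1 = 0 := hu
    have h2 := eq_X W u.2
    rw [h1, Frame.X_zero] at h2
    have h3 : u = 1 := Subtype.ext (Subtype.ext h2)
    rw [h3, map_one]
  surjT := surj_aE W hA
  ker i t ht u hu := by
    have h1 := act_eq W i t hu
    rw [ht, Units.val_one, one_mul, ← eq_X W hu] at h1
    exact mul_inv_eq_iff_eq_mul.1 (Subtype.ext h1)

omit [DecidableEq ι] in
/-- **rigidity** -/
theorem rigidE [Finite F] [CharP F 2] (hA : Amb (toFrame W) (E Q)) (h0 : ∀ p : (toFrame W).Adm, p = 1) (t : ↥(TE W))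
    (ht : ∀ i, aE W i t = 1) : t = 1 := by
  have h1 : ∀ (m : ℕ) (i : Fin (n + 2)), (i : ℕ) + m = n + 1 → evU W (i, true) t = evU W (Fin.last (n + 1), true) t := by
    intro m
    induction m with
    | zero =>
      intro i hi
      have : i = Fin.last (n + 1) := Fin.ext (by rw [Fin.val_last]; omega)
      rw [this]
    | succ m ih =>
      intro i hi
      have hi' : (i : ℕ) + 1 < n + 2 := by omega
      have h2 := ht i
      rw [aE_up W i hi', mul_inv_eq_one] at h2
      simp only [h2]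
      exact ih _ (by show (i : ℕ) + 1 + m = n + 1; omega)
  have h2 := ht (Fin.last (n + 1))
  rw [aE_last W _ (by rw [Fin.val_last]; omega), h1 1 (pd n) (by show n + 1 = n + 1; rfl)] at h2
  have h3 : evU W (Fin.last (n + 1), true) t = 1 := by
    apply Units.ext
    have h4 : (evU W (Fin.last (n + 1), true) t : F) * (evU W (Fin.last (n + 1), true) t : F) = 1 := by
      rw [← Units.val_mul, h2, Units.val_one]
    have h5 : ((evU W (Fin.last (n + 1), true) t : F) - 1) ^ 2 = 0 := by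
      rw [sub_pow_char, pow_two, h4, one_pow, sub_self]
    simp only [Units.val_one]
    exact sub_eq_zero.1 (pow_eq_zero_iff two_ne_zero |>.1 h5)
  have h4 : ∀ i, evU W (i, true) t = 1 := fun i => (h1 (n + 1 - i) i (by have := i.2; omega)).trans h3
  apply Subtype.ext
  refine ext_b W hA h0 fun x => ?_
  show (t : ↥(E Q)).1 ((toFrame W).b x) = (toFrame W).b x
  have h5 : evU W x t = 1 := by
    obtain ⟨k, s⟩ := x
    cases s
    · have h6 := evU_neg W (k, true) t
      simp only [h4, inv_one] at h6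
      exact h6
    · exact h4 k
  rw [apply_b W t.2, ← coe_evU, h5, Units.val_one, one_smul]

omit [Fintype ι] [DecidableEq ι] in
/-- **generation** -/
theorem GG_E (h0 : ∀ p : (toFrame W).Adm, p = 1) {G : Type*} [Group G] (cs : CoxeterSystem (M n) G) :
    GG cs (isCartan n) (TE W) (XE W) = ⊤ := by
  have h1 := G1D_eq_top W (MonoidHom.id ↥(E Q)) Function.surjective_id h0 cs
  have h2 : XD W (MonoidHom.id ↥(E Q)) = XE W := by
    funext x
    exact Subgroup.map_id _
  rw [h2] at h1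
  exact top_le_iff.1 (h1 ▸ le_sup_right)

/-! ### the anti-automorphism -/

section Anti

variable {J : (ι → F) ≃ₗ[F] (ι → F)} (hJO : J ∈ O Q)

/-- `g ↦ J g⁻¹ J⁻¹` -/
def phi (g : ↥(E Q)) : ↥(E Q) := ⟨J * g.1⁻¹ * J⁻¹, conj_mem_E hJO (inv_mem g.2)⟩

omit [DecidableEq ι] in
theorem antiE (hA : Amb (toFrame W) (E Q)) (h0 : ∀ p : (toFrame W).Adm, p = 1)
    (hJ : ∀ x, J ((toFrame W).b x) = (toFrame W).b (neg x)) {G : Type*} [Group G] (cs : CoxeterSystem (M n) G) :
    H92.GG.Anti cs (isCartan n) (TE W) (XE W) (phi hJO) where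
  mul g g' := by
    apply Subtype.ext
    show J * (g.1 * g'.1)⁻¹ * J⁻¹ = J * g'.1⁻¹ * J⁻¹ * (J * g.1⁻¹ * J⁻¹)
    group
  invo g := by
    have h1 : J * J = 1 := by
      refine Amb.eq_one_of_fix hA (fun x => ?_) (fun w hw => ?_)
      · show J (J _) = _
        rw [hJ, hJ, WittFrame.neg_neg]
      · rw [V0_eq_zero W h0 hw, _root_.LinearEquiv.map_zero]
    apply Subtype.ext
    show J * (J * g.1⁻¹ * J⁻¹)⁻¹ * J⁻¹ = g.1
    have h2 : J * (J * g.1⁻¹ * J⁻¹)⁻¹ * J⁻¹ = (J * J) * g.1 * (J * J)⁻¹ := by group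
    rw [h2, h1]
    group
  root a ha x hx := by
    obtain ⟨u, v, huv, e⟩ := exists_of_isRoot cs ha
    have hx' : x.1 ∈ WittRGDD.rg (toFrame W) a := hx
    rw [WittRGDD.rg_eq (toFrame W) huv e] at hx'
    obtain ⟨s, hs⟩ := hx'
    show J * x.1⁻¹ * J⁻¹ ∈ WittRGDD.rg (toFrame W) (-a)
    have e' : ee (-a) = TypeC.wt (neg u) + TypeC.wt (neg v) := by
      have h1 := TypeC.wt_ng u
      have h2 := TypeC.wt_ng v
      rw [ee_neg, e]
      show _ = TypeC.wt (TypeC.ng u) + TypeC.wt (TypeC.ng v)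
      rw [h1, h2]
      abel
    have huv' : Ok (neg u) (neg v) := huv
    rw [WittRGDD.rg_eq (toFrame W) huv' e', hs, ← Frame.X_neg]
    have h1 : (HO Q).IsIso J := fun v w => polar_map hJO v w
    rw [conj_X (toFrame W) h1 huv huv' (l := 1) (m := 1) (by rw [hJ, one_smul]) (by rw [hJ, one_smul])]
    exact ⟨_, rfl⟩
  tor t ht := by
    refine ext_b W hA h0 fun x => ?_
    show J (t.1⁻¹ (J⁻¹ ((toFrame W).b x))) = t.1 ((toFrame W).b x)
    have h1 : J⁻¹ ((toFrame W).b x) = (toFrame W).b (neg x) := by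
      have h2 := hJ (neg x)
      rw [WittFrame.neg_neg] at h2
      rw [← h2]
      exact LinearEquiv.symm_apply_apply _ _
    have h3 := apply_b W (inv_mem ht) (neg x)
    have h4 : (evU W (neg x) ⟨t⁻¹, inv_mem ht⟩ : Fˣ) = evU W x ⟨t, ht⟩ := by
      have h5 : (⟨t⁻¹, inv_mem ht⟩ : ↥(TE W)) = (⟨t, ht⟩ : ↥(TE W))⁻¹ := rfl
      simp only [h5, map_inv, evU_neg, inv_inv]
    have h6 : ev W (neg x) (t⁻¹).1 = ev W x t.1 := congrArg Units.val h4
    rw [h1]
    have h7 : t.1⁻¹ ((toFrame W).b (neg x)) = ev W x t.1 • (toFrame W).b (neg x) := by rw [← h6]; exact h3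
    simp only [h7, map_smul, hJ, WittFrame.neg_neg, apply_b W ht]

end Anti

end General

/-! ### the plus form -/

section Plus

variable (m : ℕ) (F : Type*) [Field F]

/-- the exchange of `e_i` and `f_i` -/
def swp : (Fin m ⊕ Fin m → F) ≃ₗ[F] (Fin m ⊕ Fin m → F) := LinearEquiv.funCongrLeft F F (Equiv.sumComm (Fin m) (Fin m))

theorem swp_apply (v : Fin m ⊕ Fin m → F) (z : Fin m ⊕ Fin m) : swp m F v z = v z.swap := rfl

theorem swp_mem : swp m F ∈ O (plusForm m F) := by
  rw [mem_O]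
  intro v
  rw [coe_plusForm, quadFormPlus_apply, quadFormPlus_apply]
  refine Finset.sum_congr rfl fun i _ => ?_
  rw [swp_apply, swp_apply, Sum.swap_inl, Sum.swap_inr, mul_comm]

theorem swp_b (x : Fin m × Bool) : swp m F ((toFrame (wplus m F)).b x) = (toFrame (wplus m F)).b (neg x) := by
  obtain ⟨i, s⟩ := x
  funext z
  rw [swp_apply]
  cases s <;> cases z <;> simp only [toFrame, wplus, neg, Pi.single_apply, _root_.Submodule.mem_bot, _root_.Sum.swap_inl, _root_.Bool.false_eq_true, ↓ _root_.reduceIte, _root_.Sum.inr.injEq, _root_.Bool.not_false, _root_.Sum.inl.injEq, _root_.Sum.swap_inr, _root_.ne_eq, _root_.reduceCtorEq, _root_.not_false_eq_true, _root_.Pi.single_eq_of_ne, _root_.Bool.not_true]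

end Plus

end Cfsg.Agent.H151.OwnO
end

-- part: H151/OwnO/PlusRow
section
/-!
# S4884, own characteristic: `RowB q S` for `S = PΩ⁺_{2m}(F)`, `m ≥ 3`, `F` finite of characteristic two (helper151)
-/

set_option autoImplicit false
set_option linter.unusedSectionVars false

namespace Cfsg.Agent.H151.OwnO

open Cfsg QuadraticMap Cfsg.Agent.Nodes
open Cfsg.Agent.ChevalleyStructure.CoxeterGeom Cfsg.Agent.Tits.Roots
open Cfsg.Agent.Nodes.TypeD Cfsg.Agent.Nodes.WittInst
open Cfsg.Agent.TitsThree Cfsg.Agent.TitsThree.WBridge Cfsg.Agent.TitsThree.KSideO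
open Cfsg.Agent.LieClassical Cfsg.Agent.LieClassical.OrthCore Cfsg.Agent.LieClassical.OrthForms
  Cfsg.Agent.LieClassical.OrthSimple Cfsg.Agent.LieClassical.OrthFinite

universe u

section Inj

variable {ι : Type} [Fintype ι] [DecidableEq ι] {F : Type*} [Field F] {Q : QuadraticForm F (ι → F)}

/-- in characteristic two `E Q` is `PΩ(Q)` -/
theorem toPOmega_injective [CharP F 2] (hG : Cfsg.Agent.LieClassical.OrthTrans.Good Q) (hQ : ∃ v, Q v ≠ 0) : Function.Injective (toPOmega hG) := by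
  rw [injective_iff_map_eq_one]
  intro g hg
  obtain ⟨c, hc⟩ := scalar_of_center hG (center_of_toPOmega hG hg)
  obtain ⟨v, hv⟩ := hQ
  have h1 : Q (g.1 v) = Q v := mem_O.1 (E_le_O g.2) v
  rw [hc, QuadraticMap.map_smul, smul_eq_mul] at h1
  have h2 : c * c = 1 := by
    have : (c * c - 1) * Q v = 0 := by rw [sub_mul, h1, one_mul, sub_self]
    exact sub_eq_zero.1 ((mul_eq_zero.1 this).resolve_right hv)
  have h3 : (c - 1) ^ 2 = 0 := by rw [sub_pow_char, pow_two, h2, one_pow, sub_self]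
  have h4 : c = 1 := sub_eq_zero.1 (pow_eq_zero_iff two_ne_zero |>.1 h3)
  apply Subtype.ext
  ext1 w
  rw [hc, h4, one_smul]
  rfl

/-- the isomorphism `E Q ≃ PΩ(Q)` in characteristic two -/
noncomputable def eqPOmega [CharP F 2] (hG : Cfsg.Agent.LieClassical.OrthTrans.Good Q) (hQ : ∃ v, Q v ≠ 0) : ↥(E Q) ≃* Cfsg.POmega F ⇑Q :=
  MulEquiv.ofBijective (toPOmega hG) ⟨toPOmega_injective hG hQ, toPOmega_surjective hG⟩

end Inj

variable {F : Type u} [Field F] [Finite F] [CharP F 2]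

theorem good_plus (n : ℕ) : Cfsg.Agent.LieClassical.OrthTrans.Good (plusForm (n + 3) F) := by
  apply good_of_finite (nondeg_plusForm (n + 3) F)
  rw [Module.finrank_fintype_fun_eq_card, Fintype.card_sum, Fintype.card_fin]
  omega

theorem plus_ne (n : ℕ) : ∃ v, plusForm (n + 3) F v ≠ 0 := by
  refine ⟨fun z => if z = Sum.inl 0 ∨ z = Sum.inr 0 then 1 else 0, ?_⟩
  rw [coe_plusForm, quadFormPlus_apply, Finset.sum_eq_single 0]
  · simp
  · intro i _ hi
    simp [hi]
  · intro h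
    exact absurd (Finset.mem_univ _) h

/-- **the row of `PΩ⁺_{2m}(F)`, characteristic two** -/
theorem rowB (n : ℕ) {q : ℕ} (hq : q.Prime) (hq2 : q ≠ 2)
    (hd : q ∣ Nat.card (Cfsg.POmega F (Cfsg.quadFormPlus (n + 3) F))) :
    H706.PB.RowB q (Cfsg.POmega F (Cfsg.quadFormPlus (n + 3) F)) := by
  rw [← coe_plusForm] at hd ⊢
  have : Fact (Nat.Prime 2) := ⟨Nat.prime_two⟩
  have : Finite ((Fin (n + 3) ⊕ Fin (n + 3) → F) ≃ₗ[F] (Fin (n + 3) ⊕ Fin (n + 3) → F)) :=
    Finite.of_injective (fun g : (Fin (n + 3) ⊕ Fin (n + 3) → F) ≃ₗ[F] (Fin (n + 3) ⊕ Fin (n + 3) → F) =>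
      (g : (Fin (n + 3) ⊕ Fin (n + 3) → F) → (Fin (n + 3) ⊕ Fin (n + 3) → F))) DFunLike.coe_injective
  have : Finite (M (n + 1)).Group := finite_W (M (n + 1)).toCoxeterSystem
  let e := eqPOmega (good_plus (F := F) n) (plus_ne n)
  have hcard : Nat.card (⊤ : Subgroup ↥(E (plusForm (n + 3) F))) = Nat.card (Cfsg.POmega F ⇑(plusForm (n + 3) F)) :=
    Subgroup.card_top.trans (Nat.card_congr e.toEquiv)
  let cs := (M (n + 1)).toCoxeterSystem
  have hA := amb_plus (F := F) (n + 3)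
  have h0 := adm_plus (F := F) (n + 3)
  have R := rgdE (wplus (n + 3) F) hA h0 (p := 2) cs
  have h4 : ∀ i j, M (n + 1) i j ≠ 4 := by
    intro i j
    rw [M_apply]
    split_ifs <;> omega
  have h6 : ∀ i j, M (n + 1) i j ≠ 6 := by
    intro i j
    rw [M_apply]
    split_ifs <;> omega
  have hC := Omega.EH3.Kf.Lev.comm_of_sl R fun _ _ hx hy => Nodes.SimplyLaced.cpr_symm cs (isCartan (n + 1)) h4 h6 hx hy
  have h1 : H706.PB.RowB q ↥(⊤ : Subgroup ↥(E (plusForm (n + 3) F))) :=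
    H40.OC.rowB_two R (adjE (wplus (n + 3) F) hA) (GG_E (wplus (n + 3) F) h0 cs) (rigidE (wplus (n + 3) F) hA h0)
      (H356.AQ.anti148 (antiE (wplus (n + 3) F) (swp_mem (n + 3) F) hA h0 (swp_b (n + 3) F) cs))
      (H148.GG.lin_of_commGen R hC (adjE (wplus (n + 3) F) hA)) le_top hq hq2 (by rw [hcard]; exact hd)
  exact (h1.congr Subgroup.topEquiv.symm).congr e.symm

/-- **the row of the family `PΩ⁺`, characteristic two** -/
theorem rowB_of_char {S : Type u} [Group S] [Finite S] (hS : Cfsg.IsPOmegaPlusChar 2 S) {q : ℕ} (hq : q.Prime)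
    (hq2 : q ≠ 2) (hd : q ∣ Nat.card S) : H706.PB.RowB q S := by
  obtain ⟨F, iF, iF', iC, m, hm, ⟨e⟩⟩ := hS
  obtain ⟨n, rfl⟩ : ∃ n, m = n + 3 := ⟨m - 3, by omega⟩
  refine H706.PB.RowB.congr e (rowB (F := F) n hq hq2 ?_)
  rwa [← Nat.card_congr e.toEquiv]

end Cfsg.Agent.H151.OwnO
end

-- part: H857/OM/Fld
section
/-!
# S4884, frame of `PΩ⁻`: the quadratic extension (helper857)

* `KK a b` : the quadratic algebra with norm `x² + a x y + b y²`; `fact_of` : it is a field if the norm is anisotropic;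
* `isom` : an `F`-linear isometry of the norm form is `z ↦ u z` or `z ↦ u z̄`, `u` of norm one;
* `exists_sq`, `exists_sq_norm` : square roots in characteristic two.
-/

set_option autoImplicit false

namespace Cfsg.Agent.H857.OM

open QuadraticAlgebra

section

variable {F : Type*} [Field F] (a b : F)

/-- the quadratic extension with norm form `x² + a x y + b y²` -/
abbrev KK (a b : F) : Type _ := QuadraticAlgebra F (-b) a

variable {a b}

theorem fact_of (hab : ∀ z₁ z₂ : F, z₁ ^ 2 + a * z₁ * z₂ + b * z₂ ^ 2 = 0 → z₁ = 0 ∧ z₂ = 0) :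
    Fact (∀ r : F, r ^ 2 ≠ -b + a * r) :=
  ⟨fun r hr => one_ne_zero (neg_eq_zero.1 (hab r (-1) (by linear_combination hr)).2)⟩

theorem norm_eq (z : KK a b) : norm z = z.re ^ 2 + a * z.re * z.im + b * z.im ^ 2 := by
  rw [norm_def]; ring

theorem mul_star_self_eq (z : KK a b) : z * star z = algebraMap F (KK a b) (norm z) :=
  (algebraMap_norm_eq_mul_star z).symm

theorem mul_star_of_norm {u : KK a b} (hu : norm u = 1) : u * star u = 1 := by
  rw [mul_star_self_eq, hu, map_one]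

theorem eq_re_im (z : KK a b) : z = z.re • (1 : KK a b) + z.im • (omega : KK a b) := by
  ext <;> simp [QuadraticAlgebra.re_one, QuadraticAlgebra.im_one]

theorem norm_add (z w : KK a b) : norm (z + w) = norm z + norm w + trace (z * star w) := by
  rw [norm_eq, norm_eq, norm_eq, trace_def]
  simp only [re_add, im_add, re_mul, im_mul, re_star, im_star]
  ring

variable [Hab : Fact (∀ r : F, r ^ 2 ≠ -b + a * r)]

/-- **isometries of the norm form** -/
theorem isom {f : KK a b →ₗ[F] KK a b} (hf : ∀ z, norm (f z) = norm z) :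
    norm (f 1) = 1 ∧ ((∀ z, f z = f 1 * z) ∨ ∀ z, f z = f 1 * star z) := by
  set u := f 1 with hu
  have hu1 : norm u = 1 := by rw [hu, hf, map_one]
  have huu : u * star u = 1 := mul_star_of_norm hu1
  set w := star u * f omega with hw
  have hfw : f omega = u * w := by rw [hw, ← mul_assoc, huu, one_mul]
  have hnw : norm w = _root_.QuadraticAlgebra.norm (omega : KK a b) := by
    rw [← hf omega, hfw, map_mul QuadraticAlgebra.norm u w, hu1, one_mul]
  have htw : trace w = trace (omega : KK a b) := by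
    have h1 : norm (f (omega + 1)) = _root_.QuadraticAlgebra.norm ((omega : KK a b) + 1) := hf _
    rw [map_add, hfw, ← hu] at h1
    have h2 : u * w + u = u * (w + 1) := by ring
    simp only [h2, map_mul, hu1, one_mul, norm_add, norm_add, hnw, star_one, mul_one, mul_one] at h1
    exact add_left_cancel h1
  have key : (w - omega) * (w - star (omega : KK a b)) = 0 := by
    have h1 := sq_sub_trace_smul_add_norm_eq_zero w
    have h2 : (w - omega) * (w - star (omega : KK a b)) =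
        w ^ 2 - (omega + star (omega : KK a b)) * w + omega * star (omega : KK a b) := by ring
    rw [h2, ← algebraMap_trace_eq_add_star, mul_star_self_eq, ← htw, ← hnw, ← Algebra.smul_def]
    exact h1
  have hz : ∀ z : KK a b, f z = u * (z.re • (1 : KK a b) + z.im • w) := by
    intro z
    conv_lhs => rw [eq_re_im z]
    simp only [map_add, map_smul, map_smul, ← hu, hfw, mul_add, mul_smul_comm, mul_smul_comm, mul_one]
  refine ⟨hu1, ?_⟩
  rcases mul_eq_zero.1 key with h | h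
  · left
    intro z
    rw [hz, sub_eq_zero.1 h, ← eq_re_im z]
  · right
    intro z
    rw [hz, sub_eq_zero.1 h]
    congr 1
    ext <;> simp only [QuadraticAlgebra.re_one, QuadraticAlgebra.im_one, mul_comm, _root_.QuadraticAlgebra.re_add, _root_.QuadraticAlgebra.re_smul, _root_.smul_eq_mul, _root_.mul_one, _root_.QuadraticAlgebra.re_star, _root_.QuadraticAlgebra.omega_re, _root_.QuadraticAlgebra.omega_im, _root_.zero_add, _root_.QuadraticAlgebra.im_add, _root_.QuadraticAlgebra.im_smul, _root_.MulZeroClass.mul_zero, _root_.QuadraticAlgebra.im_star, _root_.mul_neg]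

end

section Two

variable {K : Type*} [Field K] [Finite K] [CharP K 2]

theorem exists_sq (x : K) : ∃ y : K, y ^ 2 = x := by
  obtain ⟨c, hc⟩ : IsSquare x := FiniteField.isSquare_of_char_two (ringChar.eq_iff.2 inferInstance) x
  exact ⟨c, by rw [hc, pow_two]⟩

omit [Finite K] in
theorem eq_one_of_sq {x : K} (h : x ^ 2 = 1) : x = 1 := by
  have h1 : (x - 1) ^ 2 = 0 := by
    rw [sub_sq, h]
    have : (2 : K) = 0 := CharTwo.two_eq_zero
    linear_combination (1 - x) * this
  exact sub_eq_zero.1 (pow_eq_zero_iff two_ne_zero |>.1 h1)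

end Two

section Two'

variable {F : Type*} [Field F] {a b : F}

theorem charP_KK [CharP F 2] : CharP (KK a b) 2 :=
  charP_of_injective_algebraMap (algebraMap_injective (R := F) (a := -b) (b := a)) 2

theorem finite_KK [Finite F] : Finite (KK a b) := Finite.of_equiv _ (equivProd (-b) a).symm

/-- square roots of the elements of norm one have norm one -/
theorem exists_sq_norm [Finite F] [CharP F 2] [Hab : Fact (∀ r : F, r ^ 2 ≠ -b + a * r)] {u : KK a b}
    (hu : norm u = 1) : ∃ w : KK a b, norm w = 1 ∧ w ^ 2 = u := by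
  have : CharP (KK a b) 2 := charP_KK
  have : Finite (KK a b) := finite_KK
  obtain ⟨w, hw⟩ := exists_sq u
  refine ⟨w, eq_one_of_sq ?_, hw⟩
  rw [← map_pow, hw, hu]

end Two'

end Cfsg.Agent.H857.OM
end

-- part: H857/OM/Tor
section
/-!
# S4884, frame of `PΩ⁻_{2m+2}(F)`, `F` of characteristic two: the torus (helper857)

* `io z` : the vector of `V0` with coordinate `z` in the quadratic extension `KK a b`; `adm z` : the admissible pair;
* `Dt g l u` : `g ∈ E Q` is diagonal with coefficients `l` on the frame and multiplies `V0` by `u`, `u` of norm one;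
* `exists_of_tor`, `exists_dt` : the torus is the group of these elements, all `(l, u)` occur;
* `conjX`, `conjZ` : conjugation of the root elements.
-/

set_option autoImplicit false
set_option linter.unusedSectionVars false

namespace Cfsg.Agent.H857.OM

open Cfsg.Agent.ChevalleyStructure.CoxeterGeom Cfsg.Agent.Tits.Roots Cfsg.Agent.Nodes.TypeC
open Cfsg.Agent.Nodes.Comb Cfsg.Agent.Nodes.Reps Cfsg.Agent.Nodes.WittRoot
open Cfsg.Agent.TitsThree Cfsg.Agent.TitsThree.Siegel Cfsg.Agent.TitsThree.SiegelGen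
  Cfsg.Agent.TitsThree.WittFrame Cfsg.Agent.TitsThree.WittWeyl Cfsg.Agent.TitsThree.WBridge
  Cfsg.Agent.TitsThree.KSideO
open Cfsg.Agent.KFacts.WittOrth Cfsg.Agent.KFacts.SpecMinus
open QuadraticMap
open Cfsg.Agent.LieClassical Cfsg.Agent.LieClassical.OrthCore Cfsg.Agent.LieClassical.OrthTrans
open Cfsg.Agent.LieClassical.OrthSimple Cfsg.Agent.LieClassical.OrthFinite
open Cfsg.Agent.LieClassical.OrthForms

variable {F : Type*} [Field F] {m : ℕ} {a b : F}
  (hab : ∀ z₁ z₂ : F, z₁ ^ 2 + a * z₁ * z₂ + b * z₂ ^ 2 = 0 → z₁ = 0 ∧ z₂ = 0)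

/-- the space -/
abbrev VV (m : ℕ) (F : Type*) : Type _ := (Fin m ⊕ Fin m) ⊕ Fin 2 → F

/-- the frame -/
noncomputable abbrev FF (m : ℕ) {F : Type*} [Field F] {a b : F}
    (hab : ∀ z₁ z₂ : F, z₁ ^ 2 + a * z₁ * z₂ + b * z₂ ^ 2 = 0 → z₁ = 0 ∧ z₂ = 0) :
    Frame (HO (minusForm m F a b)) (Fin m) := toFrame (wminus m F a b hab)

/-- the vectors of `V0` -/
def io (m : ℕ) (a b : F) : KK a b →ₗ[F] VV m F where
  toFun z := Sum.elim (fun _ => 0) ![z.re, z.im]
  map_add' z w := by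
    funext j
    rcases j with j | j
    · simp
    · fin_cases j <;> simp
  map_smul' c z := by
    funext j
    rcases j with j | j
    · simp
    · fin_cases j <;> simp

/-- the coordinate in the quadratic extension -/
def kap (m : ℕ) (a b : F) : VV m F →ₗ[F] KK a b where
  toFun v := ⟨v (Sum.inr 0), v (Sum.inr 1)⟩
  map_add' _ _ := rfl
  map_smul' _ _ := rfl

theorem kap_io (z : KK a b) : kap m a b (io m a b z) = z := rfl

theorem io_inl (z : KK a b) (j : Fin m ⊕ Fin m) : io m a b z (Sum.inl j) = 0 := rfl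
theorem io_zero (z : KK a b) : io m a b z (Sum.inr 0) = z.re := rfl
theorem io_one (z : KK a b) : io m a b z (Sum.inr 1) = z.im := rfl

theorem io_injective : Function.Injective (io m a b) := Function.LeftInverse.injective kap_io

theorem io_mem (z : KK a b) : io m a b z ∈ (wminus m F a b hab).V0 := fun j => io_inl z j

theorem io_kap {v : VV m F} (hv : v ∈ (wminus m F a b hab).V0) : io m a b (kap m a b v) = v := by
  funext j
  rcases j with j | j
  · exact (hv j).symm
  · fin_cases j <;> rfl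

theorem Q_io (z : KK a b) : minusForm m F a b (io m a b z) = QuadraticAlgebra.norm z := by
  rw [coe_minusForm, quadFormMinus_apply, norm_eq, io_zero, io_one]
  simp only [io_inl, _root_.MulZeroClass.mul_zero, _root_.Finset.sum_const_zero, _root_.zero_add]

theorem polar_io (z w : KK a b) : polar (minusForm m F a b) (io m a b z) (io m a b w) =
    QuadraticAlgebra.trace (z * star w) := by
  rw [polar, ← map_add, Q_io, Q_io, Q_io, norm_add]
  ring

/-- the admissible pair with coordinate `z` -/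
def adm (m : ℕ) (z : KK a b) : (FF m hab).Adm :=
  ⟨io m a b z, -(minusForm m F a b) (io m a b z), io_mem hab z, rfl⟩

theorem adm_w (z : KK a b) : (adm hab m z).w = io m a b z := rfl

theorem adm_c (z : KK a b) : (adm hab m z).c = -QuadraticAlgebra.norm z := by
  change -(minusForm m F a b) (io m a b z) = _
  rw [Q_io]

theorem adm_surj (p : (FF m hab).Adm) : ∃ z, p = adm hab m z := by
  have h1 : p.w ∈ (wminus m F a b hab).V0 := p.ok.1
  refine ⟨kap m a b p.w, ?_⟩
  have h2 : p.w = (adm hab m (kap m a b p.w)).w := (io_kap hab h1).symm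
  apply Frame.Adm.ext h2
  have h3 : p.c = -(minusForm m F a b) p.w := p.ok.2
  rw [h3]
  change _ = -(minusForm m F a b) (io m a b (kap m a b p.w))
  rw [io_kap hab h1]

variable [Finite F] [CharP F 2]

theorem orth : Orth (FF m hab) := orth_minus CharTwo.two_eq_zero m a b hab

theorem adm_mul (z w : KK a b) : adm hab m (z + w) = adm hab m z * adm hab m w :=
  (orth hab).adm_ext (by rw [Frame.Adm.mul_w, adm_w, adm_w, adm_w, map_add])

/-- the elements of the torus -/
structure Dt (g : VV m F ≃ₗ[F] VV m F) (l : Fin m → F) (u : KK a b) : Prop where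
  mem : g ∈ E (minusForm m F a b)
  ne : ∀ i, l i ≠ 0
  nu : QuadraticAlgebra.norm u = 1
  t : ∀ i, g ((FF m hab).b (i, true)) = l i • (FF m hab).b (i, true)
  f : ∀ i, g ((FF m hab).b (i, false)) = (l i)⁻¹ • (FF m hab).b (i, false)
  v : ∀ z, g (io m a b z) = io m a b (u * z)

variable {hab}

theorem Dt.iso {g : VV m F ≃ₗ[F] VV m F} {l : Fin m → F} {u : KK a b} (h : Dt hab g l u) :
    (HO (minusForm m F a b)).IsIso g := fun v w => polar_map (E_le_O h.mem) v w

theorem Dt.mul {g g' : VV m F ≃ₗ[F] VV m F} {l l' : Fin m → F} {u u' : KK a b} (h : Dt hab g l u)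
    (h' : Dt hab g' l' u') : Dt hab (g * g') (fun i => l i * l' i) (u * u') where
  mem := mul_mem h.mem h'.mem
  ne i := mul_ne_zero (h.ne i) (h'.ne i)
  nu := by rw [map_mul, h.nu, h'.nu, one_mul]
  t i := by rw [mul_apply', h'.t, map_smul, h.t, smul_smul, mul_comm]
  f i := by rw [mul_apply', h'.f, map_smul, h.f, smul_smul, mul_inv, mul_comm]
  v z := by rw [mul_apply', h'.v, h.v, mul_assoc]

theorem Dt.one : Dt hab (1 : VV m F ≃ₗ[F] VV m F) (fun _ => 1) (1 : KK a b) where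
  mem := one_mem _
  ne _ := one_ne_zero
  nu := map_one _
  t i := by rw [one_smul]; rfl
  f i := by rw [inv_one, one_smul]; rfl
  v z := by rw [one_mul]; rfl

/-- an element is determined by its coefficients -/
theorem Dt.ext {g g' : VV m F ≃ₗ[F] VV m F} {l : Fin m → F} {u : KK a b} (h : Dt hab g l u)
    (h' : Dt hab g' l u) : g = g' := by
  have h1 : g⁻¹ * g' = 1 := by
    refine (orth hab).eq_one ?_ ?_
    · rintro ⟨i, s⟩
      rw [mul_apply']
      apply inv_apply_of
      cases s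
      · rw [h.f, h'.f]
      · rw [h.t, h'.t]
    · intro w hw
      have hw' : w ∈ (wminus m F a b hab).V0 := hw
      rw [mul_apply']
      apply inv_apply_of
      rw [← io_kap hab hw', h.v, h'.v]
  exact inv_mul_eq_one.1 h1

theorem Dt.mono {g : VV m F ≃ₗ[F] VV m F} {l : Fin m → F} {u : KK a b} (h : Dt hab g l u) :
    Mono (FF m hab) g id := by
  rintro ⟨i, s⟩
  cases s
  · exact ⟨_, inv_ne_zero (h.ne i), h.f i⟩
  · exact ⟨_, h.ne i, h.t i⟩

theorem Dt.tor {g : VV m F ≃ₗ[F] VV m F} {l : Fin m → F} {u : KK a b} (h : Dt hab g l u) :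
    g ∈ Nodes.WittRGD.Tor (FF m hab) (E (minusForm m F a b)) := ⟨h.mem, h.mono⟩

/-! ### the elements of the torus have this form -/

theorem exists_of_tor (hm : 2 ≤ m) {g : VV m F ≃ₗ[F] VV m F}
    (hg : g ∈ Nodes.WittRGD.Tor (FF m hab) (E (minusForm m F a b))) : ∃ l u, Dt hab g l u := by
  have : Fact (∀ r : F, r ^ 2 ≠ -b + a * r) := fact_of hab
  have : Fact (Nat.Prime 2) := ⟨Nat.prime_two⟩
  have : Finite (VV m F ≃ₗ[F] VV m F) :=
    Finite.of_injective (fun g : VV m F ≃ₗ[F] VV m F => (g : VV m F → VV m F)) DFunLike.coe_injective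
  have hA := ambT_minus (F := F) CharTwo.two_eq_zero hm a b hab
  have O := orth (m := m) hab
  have hgE : g ∈ E (minusForm m F a b) := hg.1
  have hiso : ∀ v w, (HO (minusForm m F a b)).h (g v) (g w) = (HO (minusForm m F a b)).h v w :=
    fun v w => polar_map (E_le_O hgE) v w
  choose L hL0 hL using hg.2
  have hLn : ∀ i : Fin m, L (i, false) = (L (i, true))⁻¹ := by
    intro i
    have h1 := hiso ((FF m hab).b (i, true)) ((FF m hab).b (i, false))
    rw [hL, hL, HForm.smul_left, HForm.smul_right, O.σ] at h1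
    have h2 : (HO (minusForm m F a b)).h ((FF m hab).b (id (i, true))) ((FF m hab).b (id (i, false))) = 1 :=
      O.hbb (i, true)
    have h3 : (HO (minusForm m F a b)).h ((FF m hab).b (i, true)) ((FF m hab).b (i, false)) = 1 :=
      O.hbb (i, true)
    rw [h2, h3, mul_one] at h1
    exact eq_inv_of_mul_eq_one_right h1
  have hV : ∀ w ∈ (wminus m F a b hab).V0, g w ∈ (wminus m F a b hab).V0 := fun w hw =>
    hA.map_V0 hg.1 hg.2 (ρ := id) (fun _ => rfl) hw
  let f : KK a b →ₗ[F] KK a b := (kap m a b).comp ((g : VV m F →ₗ[F] VV m F).comp (io m a b))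
  have hf : ∀ z, io m a b (f z) = g (io m a b z) := fun z => io_kap hab (hV _ (io_mem hab z))
  have hfn : ∀ z, QuadraticAlgebra.norm (f z) = QuadraticAlgebra.norm z := by
    intro z
    rw [← Q_io (m := m), hf, mem_O.1 (E_le_O hgE), Q_io]
  obtain ⟨h1, h2⟩ := isom hfn
  -- in the second case `g` is trivial on `V0`
  have h3 : ∀ z, f z = f 1 * z := by
    rcases h2 with h2 | h2
    · exact h2
    have hff : ∀ z, f (f z) = z := by
      intro z
      rw [h2 (f z), h2 z, star_mul, star_star]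
      calc f 1 * (z * star (f 1)) = (f 1 * star (f 1)) * z := by ring
        _ = z := by rw [mul_star_of_norm h1, one_mul]
    have hgg : ∀ z, (g * g) (io m a b z) = io m a b z := by
      intro z
      rw [mul_apply', ← hf, ← hf, hff]
    have hcop := hA.tcop
    obtain ⟨k, hk⟩ := (Nat.coprime_two_right.1 hcop)
    have hgk : g ^ (2 * k + 1) = 1 := by
      have h4 := pow_card_eq_one' (x := (⟨g, hg⟩ : Nodes.WittRGD.Tor (FF m hab) (modelMinus hm a b hab).I))
      ((conv at h4 => enter [@2, @6]; rw [hk]))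
      exact congrArg Subtype.val h4
    have hpow : ∀ (k : ℕ) (z : KK a b), ((g * g) ^ k) (io m a b z) = io m a b z := by
      intro k z
      induction k with
      | zero => rfl
      | succ k ih => rw [pow_succ, mul_apply', hgg, ih]
    have hg1 : ∀ z, g (io m a b z) = io m a b z := by
      intro z
      have h4 : g ^ (2 * k + 1) = g * (g * g) ^ k := by
        rw [← pow_two, ← pow_mul, pow_succ']
      have h5 := congrArg (fun x : VV m F ≃ₗ[F] VV m F => x (io m a b z)) (h4.symm.trans hgk)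
      simp only [mul_apply', hpow] at h5
      exact h5
    have hf1 : ∀ z, f z = z := fun z => io_injective (m := m) (by rw [hf, hg1])
    intro z
    rw [hf1, hf1, one_mul]
  refine ⟨fun i => L (i, true), f 1, ⟨hgE, fun i => hL0 _, h1, fun i => hL _, fun i => ?_, fun z => ?_⟩⟩
  · change _ = (L (i, true))⁻¹ • _
    rw [← hLn, hL]
    rfl
  · rw [← hf, h3]

/-! ### all coefficients occur -/

theorem nZ_mem' (x : Fin m × Bool) (p : (FF m hab).Adm) : nZ (FF m hab) x p ∈ E (minusForm m F a b) :=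
  mul_mem (mul_mem (Z_mem _ _ _) (Z_mem _ _ _)) (Z_mem _ _ _)

/-- the diagonal elements which are trivial on `V0` -/
theorem exists_diag {l : Fin m → F} (hl : ∀ i, l i ≠ 0) :
    ∃ g : VV m F ≃ₗ[F] VV m F, Dt hab g l (1 : KK a b) := by
  classical
  have O := orth (m := m) hab
  obtain ⟨p0, hp0⟩ := O.p0
  have key : ∀ s : Finset (Fin m), ∃ g : VV m F ≃ₗ[F] VV m F,
      Dt hab g (fun i => if i ∈ s then l i else 1) (1 : KK a b) := by
    intro s
    induction s using Finset.induction_on with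
    | empty =>
      refine ⟨1, ?_⟩
      have h1 : (fun i : Fin m => if i ∈ (∅ : Finset (Fin m)) then l i else 1) = fun _ => (1 : F) := by
        funext i; simp
      rw [h1]
      exact Dt.one
    | insert j s hj ih =>
      obtain ⟨g, hg⟩ := ih
      obtain ⟨r, hr⟩ := exists_sq (l j)
      have hr0 : r ≠ 0 := by
        rintro rfl
        exact hl j (by rw [← hr]; simp)
      have h1 := O.hZ_co (a := (j, true)) hp0 hr0
      have h2 : Dt hab (hZ (FF m hab) (j, true) p0 r) (fun i => if i = j then l j else 1) (1 : KK a b) := by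
        refine ⟨mul_mem (nZ_mem' _ _) (inv_mem (nZ_mem' _ _)), fun i => ?_, map_one _, fun i => ?_, fun i => ?_,
          fun z => ?_⟩
        · split_ifs
          · exact hl j
          · exact one_ne_zero
        · rw [h1.ap]
          by_cases hi : i = j
          · subst hi
            rw [if_pos rfl, lZ_self, ← pow_two, hr]
          · rw [if_neg hi, lZ_of (a := (j, true)) (z := (i, true)) hi]
        · rw [h1.ap]
          by_cases hi : i = j
          · subst hi
            rw [if_pos rfl]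
            have e : ((i, false) : Fin m × Bool) = ng (i, true) := rfl
            rw [e, lZ_ng, ← pow_two, hr]
          · rw [if_neg hi, lZ_of (a := (j, true)) (z := (i, false)) hi, inv_one]
        · rw [one_mul]
          have h9 := h1.fx (io m a b z) (io_mem hab z)
          generalize hZ (FF m hab) (j, true) p0 r = gg at h9 ⊢
          generalize io m a b z = ww at h9 ⊢
          exact h9
      refine ⟨hZ (FF m hab) (j, true) p0 r * g, ?_⟩
      have h3 := h2.mul hg
      have e : (fun i => (if i = j then l j else 1) * (if i ∈ s then l i else 1)) =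
          fun i => if i ∈ insert j s then l i else 1 := by
        funext i
        by_cases hi : i = j
        · subst hi
          rw [if_pos rfl, if_neg hj, if_pos (Finset.mem_insert_self _ _), mul_one]
        · rw [if_neg hi, one_mul]
          by_cases his : i ∈ s
          · rw [if_pos his, if_pos (Finset.mem_insert_of_mem his)]
          · rw [if_neg his, if_neg (by rw [Finset.mem_insert]; push Not; exact ⟨hi, his⟩)]
      rw [one_mul, e] at h3
      exact h3
  obtain ⟨g, hg⟩ := key Finset.univ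
  have e : (fun i => if i ∈ (Finset.univ : Finset (Fin m)) then l i else 1) = l := by
    funext i; rw [if_pos (Finset.mem_univ i)]
  rw [e] at hg
  exact ⟨g, hg⟩

/-- the rotations of `V0` -/
theorem exists_rot (hm : 0 < m) {u : KK a b} (hu : QuadraticAlgebra.norm u = 1) :
    ∃ g : VV m F ≃ₗ[F] VV m F, Dt hab g (fun _ => 1) u := by
  have : Fact (∀ r : F, r ^ 2 ≠ -b + a * r) := fact_of hab
  have : CharP (KK a b) 2 := charP_KK
  have O := orth (m := m) hab
  obtain ⟨w, hw, hwu⟩ := exists_sq_norm hu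
  let i0 : Fin m := ⟨0, hm⟩
  have hc : ∀ w : KK a b, QuadraticAlgebra.norm w = 1 → (adm hab m w).c = 1 := by
    intro w hw
    rw [adm_c, hw, O.neg]
  have hc0 : ∀ w : KK a b, QuadraticAlgebra.norm w = 1 → (adm hab m w).c ≠ 0 := by
    intro w hw
    rw [hc w hw]
    exact one_ne_zero
  have h1 : ∀ w : KK a b, QuadraticAlgebra.norm w = 1 →
      nZ (FF m hab) (i0, true) (adm hab m w) ((FF m hab).b (i0, false)) = (FF m hab).b (i0, true) := by
    intro w hw
    have h2 := nZ_apply_neg (FF m hab) (i0, true) (adm hab m w) (hc0 w hw)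
    rw [O.η, one_mul, hc w hw, one_smul] at h2
    exact h2
  have h2 : ∀ w : KK a b, QuadraticAlgebra.norm w = 1 →
      nZ (FF m hab) (i0, true) (adm hab m w) ((FF m hab).b (i0, true)) = (FF m hab).b (i0, false) := by
    intro w hw
    have h2 := nZ_apply_self (FF m hab) (i0, true) (adm hab m w) (hc0 w hw)
    simp only [O.η, O.ε, O.σ, hc w hw, inv_one, one_mul, one_mul, one_smul] at h2
    exact h2
  have h3 : ∀ w z : KK a b, QuadraticAlgebra.norm w = 1 →
      nZ (FF m hab) (i0, true) (adm hab m w) (io m a b z) = io m a b (w ^ 2 * star z) := by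
    intro w z hw
    rw [nZ_apply_V0 (FF m hab) (i0, true) (adm hab m w) (hc0 w hw) (io_mem hab z), O.ε, hc w hw, inv_one, one_mul,
      one_mul]
    have h4 : (HO (minusForm m F a b)).h (io m a b z) (adm hab m w).w = QuadraticAlgebra.trace (z * star w) :=
      polar_io z w
    rw [h4, adm_w, ← map_smul, ← map_add]
    congr 1
    rw [Algebra.smul_def, QuadraticAlgebra.algebraMap_trace_eq_add_star, star_mul, star_star]
    have h5 : w * star w = 1 := mul_star_of_norm hw
    have h6 : (2 : KK a b) = 0 := CharTwo.two_eq_zero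
    linear_combination z * h5 + z * h6
  have h11 : QuadraticAlgebra.norm (1 : KK a b) = 1 := map_one _
  refine ⟨nZ (FF m hab) (i0, true) (adm hab m w) * (nZ (FF m hab) (i0, true) (adm hab m 1))⁻¹,
    ⟨mul_mem (nZ_mem' _ _) (inv_mem (nZ_mem' _ _)), fun _ => one_ne_zero, hu, fun i => ?_, fun i => ?_, fun z => ?_⟩⟩
  · rw [one_smul, mul_apply']
    by_cases hi : i = i0
    · subst hi
      rw [inv_apply_of (h1 1 h11), h1 w hw]
    · rw [inv_apply_of (nZ_apply_of_ne (FF m hab) (x := (i0, true)) (z := (i, true)) hi _),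
        nZ_apply_of_ne (FF m hab) (x := (i0, true)) (z := (i, true)) hi _]
  · rw [inv_one, one_smul, mul_apply']
    by_cases hi : i = i0
    · subst hi
      rw [inv_apply_of (h2 1 h11), h2 w hw]
    · rw [inv_apply_of (nZ_apply_of_ne (FF m hab) (x := (i0, true)) (z := (i, false)) hi _),
        nZ_apply_of_ne (FF m hab) (x := (i0, true)) (z := (i, false)) hi _]
  · have h4 : nZ (FF m hab) (i0, true) (adm hab m 1) (io m a b (star z)) = io m a b z := by
      rw [h3 1 _ h11, star_star, one_pow, one_mul]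
    rw [mul_apply', inv_apply_of h4, h3 w _ hw, star_star, hwu]

theorem exists_dt (hm : 0 < m) {l : Fin m → F} (hl : ∀ i, l i ≠ 0) {u : KK a b}
    (hu : QuadraticAlgebra.norm u = 1) : ∃ g : VV m F ≃ₗ[F] VV m F, Dt hab g l u := by
  obtain ⟨g, hg⟩ := exists_diag (hab := hab) hl
  obtain ⟨k, hk⟩ := exists_rot (hab := hab) hm hu
  refine ⟨g * k, ?_⟩
  have h1 := hg.mul hk
  rw [one_mul] at h1
  have e : (fun i => l i * 1) = l := by funext i; rw [mul_one]
  rw [e] at h1
  exact h1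

/-! ### conjugation of the root elements -/

theorem Dt.conjX {g : VV m F ≃ₗ[F] VV m F} {l : Fin m → F} {u : KK a b} (h : Dt hab g l u) {i j : Fin m}
    (hij : i ≠ j) (s : F) : g * (FF m hab).X (i, true) (j, false) s * g⁻¹ =
      (FF m hab).X (i, true) (j, false) (l i * (l j)⁻¹ * s) := by
  have O := orth (m := m) hab
  rw [conj_X (FF m hab) h.iso (x := (i, true)) (y := (j, false)) hij (x' := (i, true)) (y' := (j, false)) hij
    (h.t i) (h.f j), O.σ, O.η, inv_one, mul_one, mul_one]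

theorem Dt.conjZ {g : VV m F ≃ₗ[F] VV m F} {l : Fin m → F} {u : KK a b} (h : Dt hab g l u) (i : Fin m)
    (z : KK a b) : g * (FF m hab).Z (i, true) (adm hab m z) * g⁻¹ =
      (FF m hab).Z (i, true) (adm hab m (algebraMap F (KK a b) (l i) * u * z)) := by
  have O := orth (m := m) hab
  rw [conj_Z (FF m hab) h.iso (h.t i) (adm hab m z) (adm hab m (u * z)) (by rw [adm_w, adm_w, h.v])
    (by rw [adm_c, adm_c, map_mul, h.nu, one_mul])]
  congr 1
  apply O.adm_ext
  rw [Frame.Adm.smul_w, adm_w, adm_w, ← map_smul, O.σ, Algebra.smul_def, mul_assoc]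

end Cfsg.Agent.H857.OM
end

-- part: H857/OM/Frame
section
/-!
# S4884, the frame of `PΩ⁻_{2m+2}(F)`, `F` of characteristic two (helper857)

* `phi_inj` : `E Q → PΩ Q` is injective;
* `SF i`, `yy i`, `al l u i` : the fields, the simple root elements, the characters of the torus;
* `exists_lu` : all families of scalars occur;
* `par : Par T X (SF i)`, `adj : Adj T X (SF i)`.
-/

set_option autoImplicit false
set_option linter.unusedSectionVars false

namespace Cfsg.Agent.H857.OM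

open Cfsg.Agent.ChevalleyStructure.CoxeterGeom Cfsg.Agent.Tits.Roots Cfsg.Agent.Nodes.TypeC
open Cfsg.Agent.Nodes.Comb Cfsg.Agent.Nodes.Reps Cfsg.Agent.Nodes.WittRoot
open Cfsg.Agent.TitsThree Cfsg.Agent.TitsThree.Siegel Cfsg.Agent.TitsThree.SiegelGen
  Cfsg.Agent.TitsThree.WittFrame Cfsg.Agent.TitsThree.WittWeyl Cfsg.Agent.TitsThree.WBridge
  Cfsg.Agent.TitsThree.KSideO
open Cfsg.Agent.KFacts.WittOrth Cfsg.Agent.KFacts.SpecMinus
open QuadraticMap
open Cfsg.Agent.LieClassical Cfsg.Agent.LieClassical.OrthCore Cfsg.Agent.LieClassical.OrthTrans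
open Cfsg.Agent.LieClassical.OrthSimple Cfsg.Agent.LieClassical.OrthFinite
open Cfsg.Agent.LieClassical.OrthForms

variable {F : Type*} [Field F] [Finite F] [CharP F 2] {m : ℕ} {a b : F}
  (hab : ∀ z₁ z₂ : F, z₁ ^ 2 + a * z₁ * z₂ + b * z₂ ^ 2 = 0 → z₁ = 0 ∧ z₂ = 0)

/-! ### the map `E Q → PΩ Q` -/

include hab in
/-- scalars of `E Q` are trivial -/
theorem eq_one_of_scalar (hm : 0 < m) {g : VV m F ≃ₗ[F] VV m F} (hg : g ∈ E (minusForm m F a b)) {c : F}
    (hc : ∀ v, g v = c • v) : g = 1 := by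
  have O := orth (m := m) hab
  have h1 : polar (minusForm m F a b) (g ((FF m hab).b (⟨0, hm⟩, true))) (g ((FF m hab).b (⟨0, hm⟩, false))) = _ :=
    polar_map (E_le_O hg) _ _
  simp only [hc, hc, polar_smul_left, polar_smul_right] at h1
  have h2 : polar (minusForm m F a b) ((FF m hab).b (⟨0, hm⟩, true)) ((FF m hab).b (⟨0, hm⟩, false)) = 1 :=
    O.hbb (⟨0, hm⟩, true)
  rw [h2, smul_eq_mul, smul_eq_mul, mul_one, ← pow_two] at h1
  have h3 : c = 1 := eq_one_of_sq h1
  ext1 v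
  rw [hc, h3, one_smul]
  rfl

omit [Finite F] [CharP F 2] in
private theorem gconj70 {G H : Type*} [Group G] [Group H] (f : G →* H) {g x y : G} (e : g * x * g⁻¹ = y) :
    f g * f x * (f g)⁻¹ = f y := by rw [← e, map_mul, map_mul, map_inv]

omit [Finite F] [CharP F 2] in
private theorem gmul70 {G H : Type*} [Group G] [Group H] (f : G →* H) {x y z : G} (e : z = x * y) :
    f z = f x * f y := by rw [e, map_mul]

omit [Finite F] [CharP F 2] in
private theorem gcomm70 {G H : Type*} [Group G] [Group H] (f : G →* H) {x y : G} (e : x * y = y * x) :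
    f x * f y = f y * f x := by rw [← map_mul, e, map_mul]

omit [Finite F] [CharP F 2] in
private theorem gcomm70' {G H : Type*} [Group G] [Group H] (f : G →* H) {x y : G} (e : f x * f y = f y * f x) :
    f (x * y) = f (y * x) := by rw [map_mul, e, map_mul]

theorem phi_inj (hm : 2 ≤ m) : Function.Injective (modelMinus hm a b hab).φ := by
  rw [injective_iff_map_eq_one]
  intro g hg
  (have h_ob := scalar_of_center (good_minus hm a b hab) (center_of_toPOmega (good_minus hm a b hab) hg)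
   revert h_ob; rintro (⟨c, hc⟩))
  exact Subtype.ext (eq_one_of_scalar hab (by omega) g.2 hc)

theorem phi_surj (hm : 2 ≤ m) : Function.Surjective (modelMinus hm a b hab).φ :=
  toPOmega_surjective (good_minus hm a b hab)

include hab in
seal _root_.Finset.sum _root_.dotProduct in
theorem center_eq_bot (hm : 2 ≤ m) : Subgroup.center (Cfsg.POmega F ⇑(minusForm m F a b)) = ⊥ := by
  rw [Subgroup.eq_bot_iff_forall]
  intro z hz
  obtain ⟨g, rfl⟩ := phi_surj hab hm z
  have h1 : g ∈ Subgroup.center (E (minusForm m F a b)) := by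
    refine Subgroup.mem_center_iff.2 fun k => ?_
    apply phi_inj hab hm
    exact gcomm70' (modelMinus hm a b hab).φ ((Subgroup.mem_center_iff.1 hz) ((modelMinus hm a b hab).φ k))
  (have h_ob := scalar_of_center (good_minus hm a b hab) h1
   revert h_ob; rintro (⟨c, hc⟩))
  have h3 : g = 1 := Subtype.ext (eq_one_of_scalar hab (by omega) g.2 hc)
  exact (congrArg (modelMinus hm a b hab).φ h3).trans (MonoidHom.map_one _)

/-! ### the fields and the simple root elements -/

section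

variable [Hab : Fact (∀ r : F, r ^ 2 ≠ -b + a * r)]

/-- the field of the simple root `i` -/
def SF (m : ℕ) (a b : F) [Fact (∀ r : F, r ^ 2 ≠ -b + a * r)] (i : Fin m) : Subfield (KK a b) :=
  if (i : ℕ) + 1 < m then (algebraMap F (KK a b)).fieldRange else ⊤

omit [Finite F] [CharP F 2] in
theorem mem_SF {i : Fin m} (h : (i : ℕ) + 1 < m) {s : KK a b} : s ∈ SF m a b i ↔ algebraMap F (KK a b) s.re = s := by
  rw [SF, if_pos h, RingHom.mem_fieldRange]
  constructor
  · rintro ⟨x, rfl⟩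
    rfl
  · intro h1
    exact ⟨_, h1⟩

omit [Finite F] [CharP F 2] in
theorem mem_SF' {i : Fin m} (h : ¬ (i : ℕ) + 1 < m) (s : KK a b) : s ∈ SF m a b i := by
  rw [SF, if_neg h]
  exact Subfield.mem_top s

/-- the simple root elements -/
noncomputable def yy (i : Fin m) (s : KK a b) : VV m F ≃ₗ[F] VV m F :=
  if h : (i : ℕ) + 1 < m then (FF m hab).X (i, true) (⟨i + 1, h⟩, false) s.re
  else (FF m hab).Z (i, true) (adm hab m s)

theorem yy_pos {i : Fin m} (h : (i : ℕ) + 1 < m) (s : KK a b) :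
    yy hab i s = (FF m hab).X (i, true) (⟨i + 1, h⟩, false) s.re := dif_pos h

theorem yy_neg {i : Fin m} (h : ¬ (i : ℕ) + 1 < m) (s : KK a b) :
    yy hab i s = (FF m hab).Z (i, true) (adm hab m s) := dif_neg h

omit Hab in
theorem ne_succ {i : Fin m} (h : (i : ℕ) + 1 < m) : i ≠ ⟨i + 1, h⟩ := fun h1 => by
  have := congrArg Fin.val h1
  simp at this

theorem yy_mem (i : Fin m) (s : KK a b) : yy hab i s ∈ E (minusForm m F a b) := by
  by_cases h : (i : ℕ) + 1 < m
  · rw [yy_pos hab h]; exact X_mem _ _ _ _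
  · rw [yy_neg hab h]; exact Z_mem _ _ _

theorem yy_add (i : Fin m) (s t : KK a b) : yy hab i (s + t) = yy hab i s * yy hab i t := by
  by_cases h : (i : ℕ) + 1 < m
  · rw [yy_pos hab h, yy_pos hab h, yy_pos hab h, ← Frame.X_add]; rfl
  · rw [yy_neg hab h, yy_neg hab h, yy_neg hab h, adm_mul, Frame.Z_mul]

theorem yy_zero (i : Fin m) : yy hab i 0 = 1 := by
  have h1 := yy_add hab i 0 0
  rw [add_zero] at h1
  exact mul_eq_left.1 h1.symm

theorem yy_eq_one {i : Fin m} {s : KK a b} (hs : s ∈ SF m a b i) (h1 : yy hab i s = 1) : s = 0 := by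
  have O := orth (m := m) hab
  by_cases h : (i : ℕ) + 1 < m
  · rw [yy_pos hab h] at h1
    have h2 := O.x_inj (x := (i, true)) (y := (⟨i + 1, h⟩, false)) (ne_succ h) h1
    rw [← (mem_SF h).1 hs, h2, map_zero]
  · rw [yy_neg hab h] at h1
    have h2 := O.z_inj h1
    have h3 : (adm hab m s).w = io m a b 0 := by rw [h2, map_zero]; rfl
    exact io_injective h3

theorem yy_inj {i : Fin m} {s t : KK a b} (hs : s ∈ SF m a b i) (ht : t ∈ SF m a b i)
    (h1 : yy hab i s = yy hab i t) : s = t := by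
  have h2 : yy hab i (s - t) = 1 := by
    have h3 := yy_add hab i (s - t) t
    rw [sub_add_cancel, h1] at h3
    exact mul_eq_right.1 h3.symm
  exact sub_eq_zero.1 (yy_eq_one hab (Subfield.sub_mem _ hs ht) h2)

/-- the characters of the torus -/
noncomputable def al (l : Fin m → F) (u : KK a b) (i : Fin m) : KK a b :=
  if h : (i : ℕ) + 1 < m then algebraMap F (KK a b) (l i * (l ⟨i + 1, h⟩)⁻¹) else algebraMap F (KK a b) (l i) * u

omit [Finite F] [CharP F 2] in
theorem al_mem (l : Fin m → F) (u : KK a b) (i : Fin m) : al l u i ∈ SF m a b i := by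
  by_cases h : (i : ℕ) + 1 < m
  · rw [mem_SF h, al, dif_pos h]
    rfl
  · exact mem_SF' h _

omit [Finite F] [CharP F 2] in
theorem al_ne {l : Fin m → F} (hl : ∀ i, l i ≠ 0) {u : KK a b} (hu : QuadraticAlgebra.norm u = 1) (i : Fin m) :
    al l u i ≠ 0 := by
  have h0 : ∀ x : F, x ≠ 0 → algebraMap F (KK a b) x ≠ 0 := fun x hx h1 =>
    hx ((algebraMap F (KK a b)).injective (by rw [h1, map_zero]))
  by_cases h : (i : ℕ) + 1 < m
  · rw [al, dif_pos h]
    exact h0 _ (mul_ne_zero (hl _) (inv_ne_zero (hl _)))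
  · rw [al, dif_neg h]
    refine mul_ne_zero (h0 _ (hl _)) ?_
    rintro rfl
    rw [QuadraticAlgebra.norm_zero] at hu
    exact zero_ne_one hu

variable {hab}

theorem Dt.conj_yy {g : VV m F ≃ₗ[F] VV m F} {l : Fin m → F} {u : KK a b} (h : Dt hab g l u) {i : Fin m}
    {s : KK a b} (hs : s ∈ SF m a b i) : g * yy hab i s * g⁻¹ = yy hab i (al l u i * s) := by
  by_cases hi : (i : ℕ) + 1 < m
  · rw [yy_pos hab hi, yy_pos hab hi, h.conjX (ne_succ hi), al, dif_pos hi]
    congr 1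
    rw [← (mem_SF hi).1 hs, ← map_mul]
    rfl
  · rw [yy_neg hab hi, yy_neg hab hi, h.conjZ, al, dif_neg hi]

variable (hab)

include hab in
/-- **all families of scalars occur** -/
theorem exists_lu (hm : 0 < m) {c : Fin m → KK a b} (hc : ∀ i, c i ∈ SF m a b i) (hc0 : ∀ i, c i ≠ 0) :
    ∃ (l : Fin m → F) (u : KK a b), (∀ i, l i ≠ 0) ∧ QuadraticAlgebra.norm u = 1 ∧ ∀ i, al l u i = c i := by
  classical
  let k : Fin m := ⟨m - 1, by omega⟩
  have hk : ¬ (k : ℕ) + 1 < m := by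
    change ¬ (m - 1) + 1 < m
    omega
  obtain ⟨r, hr⟩ := exists_sq (QuadraticAlgebra.norm (c k))
  have hn0 : QuadraticAlgebra.norm (c k) ≠ 0 := fun h => hc0 k (QuadraticAlgebra.norm_eq_zero_iff_eq_zero.1 h)
  have hr0 : r ≠ 0 := by
    rintro rfl
    exact hn0 (by rw [← hr]; simp)
  let d : Fin m → F := fun i => if (i : ℕ) + 1 < m then (c i).re else 1
  have hd0 : ∀ i, d i ≠ 0 := by
    intro i
    by_cases hi : (i : ℕ) + 1 < m
    · change (if (i : ℕ) + 1 < m then (c i).re else 1) ≠ 0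
      rw [if_pos hi]
      intro h1
      apply hc0 i
      rw [← (mem_SF hi).1 (hc i), h1, map_zero]
    · change (if (i : ℕ) + 1 < m then (c i).re else 1) ≠ 0
      rw [if_neg hi]
      exact one_ne_zero
  let l : Fin m → F := fun i => (∏ j ∈ Finset.Ici i, d j) * r
  have hl0 : ∀ i, l i ≠ 0 := fun i => mul_ne_zero (Finset.prod_ne_zero_iff.2 fun j _ => hd0 j) hr0
  have hlk : l k = r := by
    have h1 : Finset.Ici k = {k} := by
      ext j
      rw [Finset.mem_Ici, Finset.mem_singleton]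
      constructor
      · intro h1
        apply Fin.ext
        have h2 : (k : ℕ) ≤ j := h1
        have h3 := j.2
        change m - 1 ≤ (j : ℕ) at h2
        change (j : ℕ) = m - 1
        omega
      · rintro rfl
        exact le_rfl
    change (∏ j ∈ Finset.Ici k, d j) * r = r
    rw [h1, Finset.prod_singleton]
    change (if (k : ℕ) + 1 < m then (c k).re else 1) * r = r
    rw [if_neg hk, one_mul]
  refine ⟨l, algebraMap F (KK a b) r⁻¹ * c k, hl0, ?_, fun i => ?_⟩
  · rw [map_mul, QuadraticAlgebra.norm_algebraMap, ← hr, ← mul_pow, inv_mul_cancel₀ hr0, one_pow]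
  · by_cases hi : (i : ℕ) + 1 < m
    · rw [al, dif_pos hi]
      have h1 : Finset.Ici i = insert i (Finset.Ici (⟨i + 1, hi⟩ : Fin m)) := by
        ext j
        rw [Finset.mem_insert, Finset.mem_Ici, Finset.mem_Ici, Fin.le_def, Fin.le_def, Fin.ext_iff]
        simp only
        omega
      have h2 : i ∉ Finset.Ici (⟨i + 1, hi⟩ : Fin m) := by
        rw [Finset.mem_Ici, Fin.le_def]
        simp
      have h3 : l i = d i * l ⟨i + 1, hi⟩ := by
        change (∏ j ∈ Finset.Ici i, d j) * r = d i * ((∏ j ∈ Finset.Ici (⟨i + 1, hi⟩ : Fin m), d j) * r)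
        rw [h1, Finset.prod_insert h2, mul_assoc]
      rw [h3, mul_assoc, mul_inv_cancel₀ (hl0 _), mul_one]
      change algebraMap F (KK a b) (if (i : ℕ) + 1 < m then (c i).re else 1) = c i
      rw [if_pos hi]
      exact (mem_SF hi).1 (hc i)
    · have hik : i = k := by
        apply Fin.ext
        have := i.2
        change (i : ℕ) = m - 1
        omega
      rw [al, dif_neg hi, hik, hlk, ← mul_assoc, ← map_mul, mul_inv_cancel₀ hr0, map_one, one_mul]

/-! ### the coordinates of the simple root groups of `PΩ` -/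

theorem mem_T (hm : 2 ≤ m) {t : Cfsg.POmega F ⇑(minusForm m F a b)} :
    t ∈ Nodes.WittModel.T (modelMinus hm a b hab) ↔ ∃ (g : VV m F ≃ₗ[F] VV m F) (l : Fin m → F) (u : KK a b)
      (h : Dt hab g l u), t = (modelMinus hm a b hab).φ ⟨g, h.mem⟩ := by
  constructor
  · rintro ⟨⟨g, hg⟩, h, rfl⟩
    (have h_ob := exists_of_tor hm (Subgroup.mem_subgroupOf.1 h)
     revert h_ob; rintro (⟨l, u, h1⟩))
    exact ⟨g, l, u, h1, rfl⟩
  · rintro ⟨g, l, u, h, rfl⟩
    exact ⟨⟨g, h.mem⟩, Subgroup.mem_subgroupOf.2 h.tor, rfl⟩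

theorem mem_rg {i : Fin m} {g : VV m F ≃ₗ[F] VV m F} :
    g ∈ rg (FF m hab) (sr i) ↔ ∃ s ∈ SF m a b i, g = yy hab i s := by
  rw [Nodes.WittRGD.rg_sr]
  by_cases hi : (i : ℕ) + 1 < m
  · have hnx : nx i = (⟨i + 1, hi⟩, false) := by unfold nx; rw [dif_pos hi]
    rw [hnx, PG_ne (FF m hab) (a := (i, true)) (b := (⟨i + 1, hi⟩, false)) (ne_succ hi), mem_XG]
    constructor
    · rintro ⟨t, rfl⟩
      exact ⟨algebraMap F (KK a b) t, (mem_SF hi).2 rfl, by rw [yy_pos hab hi]; rfl⟩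
    · rintro ⟨s, -, rfl⟩
      exact ⟨s.re, yy_pos hab hi s⟩
  · have hnx : nx i = (i, true) := by unfold nx; rw [dif_neg hi]
    rw [hnx, PG_self, mem_ZG]
    constructor
    · rintro ⟨p, rfl⟩
      obtain ⟨z, rfl⟩ := adm_surj hab p
      exact ⟨z, mem_SF' hi z, (yy_neg hab hi z).symm⟩
    · rintro ⟨s, -, rfl⟩
      exact ⟨_, yy_neg hab hi s⟩

/-- the parametrisation of the simple root groups -/
noncomputable def pr (hm : 2 ≤ m) (i : Fin m) :
    Multiplicative ↥(SF m a b i) →* Cfsg.POmega F ⇑(minusForm m F a b) where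
  toFun s := (modelMinus hm a b hab).φ ⟨yy hab i ((Multiplicative.toAdd s : ↥(SF m a b i)) : KK a b), yy_mem hab i _⟩
  map_one' := by
    have h1 : (⟨yy hab i ((Multiplicative.toAdd (1 : Multiplicative ↥(SF m a b i)) : ↥(SF m a b i)) : KK a b),
        yy_mem hab i _⟩ : (modelMinus hm a b hab).I) = 1 := Subtype.ext (yy_zero hab i)
    exact (congrArg (modelMinus hm a b hab).φ h1).trans (MonoidHom.map_one _)
  map_mul' s t := gmul70 (modelMinus hm a b hab).φ (Subtype.ext (yy_add hab i _ _))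

theorem pr_apply (hm : 2 ≤ m) (i : Fin m) (s : ↥(SF m a b i)) : pr hab hm i (Multiplicative.ofAdd s) =
    (modelMinus hm a b hab).φ ⟨yy hab i (s : KK a b), yy_mem hab i _⟩ := rfl

seal _root_.Finset.sum _root_.dotProduct in
theorem conj_pr (hm : 2 ≤ m) {g : VV m F ≃ₗ[F] VV m F} {l : Fin m → F} {u : KK a b} (h : Dt hab g l u) (i : Fin m)
    (s : ↥(SF m a b i)) : (modelMinus hm a b hab).φ ⟨g, h.mem⟩ * pr hab hm i (Multiplicative.ofAdd s) *
      ((modelMinus hm a b hab).φ ⟨g, h.mem⟩)⁻¹ = pr hab hm i (Multiplicative.ofAdd (⟨al l u i, al_mem l u i⟩ * s)) := by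
  simp only [pr_apply, pr_apply]
  refine gconj70 (modelMinus hm a b hab).φ ?_
  exact Subtype.ext (h.conj_yy s.2)

/-- **the parametrised simple root groups** -/
noncomputable def par (hm : 2 ≤ m) : H148.GG.Par (Nodes.WittModel.T (modelMinus hm a b hab))
    (Nodes.WittModel.X (modelMinus hm a b hab)) (fun i : Fin m => ↥(SF m a b i)) where
  y := pr hab hm
  inj i := by
    intro s t hst
    have h1 := phi_inj hab hm hst
    have h2 := yy_inj hab (Multiplicative.toAdd s).2 (Multiplicative.toAdd t).2 (congrArg Subtype.val h1)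
    exact Multiplicative.toAdd.injective (Subtype.ext h2)
  range i := by
    ext k
    rw [Nodes.WittModel.mem_X]
    constructor
    · rintro ⟨s, rfl⟩
      exact ⟨_, yy_mem hab i _, (mem_rg hab).2 ⟨_, (Multiplicative.toAdd s).2, rfl⟩, rfl⟩
    · rintro ⟨g, hg, h1, rfl⟩
      obtain ⟨s, hs, rfl⟩ := (mem_rg hab).1 h1
      exact ⟨Multiplicative.ofAdd ⟨s, hs⟩, rfl⟩
  act i t ht := by
    obtain ⟨g, l, u, h, rfl⟩ := (mem_T hab hm).1 ht
    have h0 : (⟨al l u i, al_mem l u i⟩ : ↥(SF m a b i)) ≠ 0 := fun h1 =>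
      al_ne h.ne h.nu i (congrArg Subtype.val h1)
    exact ⟨Units.mk0 _ h0, fun s => conj_pr hab hm h i s⟩
  surj c := by
    obtain ⟨l, u, hl, hu, hlu⟩ := exists_lu hab (by omega) (c := fun i => ((c i : ↥(SF m a b i)) : KK a b))
      (fun i => (c i : ↥(SF m a b i)).2) (fun i h1 => (c i).ne_zero (Subtype.ext h1))
    obtain ⟨g, hg⟩ := exists_dt (hab := hab) (by omega) hl hu
    refine ⟨_, (mem_T hab hm).2 ⟨g, l, u, hg, rfl⟩, fun i s => ?_⟩
    rw [conj_pr hab hm hg i s]
    congr 2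
    apply Subtype.ext
    change al l u i * (s : KK a b) = ((c i : ↥(SF m a b i)) : KK a b) * (s : KK a b)
    rw [hlu]

/-- **the coordinates** -/
noncomputable def adj (hm : 2 ≤ m) : H148.GG.Adj (Nodes.WittModel.T (modelMinus hm a b hab))
    (Nodes.WittModel.X (modelMinus hm a b hab)) (fun i : Fin m => ↥(SF m a b i)) := (par hab hm).adj

/-- the torus is commutative -/
theorem comm_T (hm : 2 ≤ m) {s t : Cfsg.POmega F ⇑(minusForm m F a b)}
    (hs : s ∈ Nodes.WittModel.T (modelMinus hm a b hab)) (ht : t ∈ Nodes.WittModel.T (modelMinus hm a b hab)) :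
    s * t = t * s := by
  obtain ⟨g, l, u, h, rfl⟩ := (mem_T hab hm).1 hs
  (have h_ob := (mem_T hab hm).1 ht
   revert h_ob; rintro (⟨g', l', u', h', rfl⟩))
  refine gcomm70 (modelMinus hm a b hab).φ (Subtype.ext ?_)
  change g * g' = g' * g
  have h1 := h.mul h'
  have h2 := h'.mul h
  have e1 : (fun i => l' i * l i) = fun i => l i * l' i := by funext i; rw [mul_comm]
  rw [e1, mul_comm u' u] at h2
  exact h1.ext h2

end

end Cfsg.Agent.H857.OM
end

-- part: H857/OM/Anti
section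
/-!
# S4884, the frame of `PΩ⁻_{2m+2}(F)`, `F` of characteristic two: the anti-automorphism (helper857)

* `JJ` : the isometry `b (i, true) ↔ b (i, false)`, `z ↦ z̄` on `V0`; `th` : `y ↦ J y⁻¹ J⁻¹` on `PΩ Q`;
* `rgd`, `GG_eq`, `anti`, `odd_T`, `faithful`, `lin` : **the frame**.
-/

set_option autoImplicit false
set_option linter.unusedSectionVars false

namespace Cfsg.Agent.H857.OM

open Cfsg.Agent.ChevalleyStructure.CoxeterGeom Cfsg.Agent.Tits.Roots Cfsg.Agent.Nodes.TypeC
open Cfsg.Agent.Nodes.Comb Cfsg.Agent.Nodes.Reps Cfsg.Agent.Nodes.WittRoot Cfsg.Agent.Nodes.BNOf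
open Cfsg.Agent.TitsThree Cfsg.Agent.TitsThree.Siegel Cfsg.Agent.TitsThree.SiegelGen
  Cfsg.Agent.TitsThree.WittFrame Cfsg.Agent.TitsThree.WittWeyl Cfsg.Agent.TitsThree.WBridge
  Cfsg.Agent.TitsThree.KSideO
open Cfsg.Agent.KFacts.WittOrth Cfsg.Agent.KFacts.SpecMinus
open QuadraticMap
open Cfsg.Agent.LieClassical Cfsg.Agent.LieClassical.OrthCore Cfsg.Agent.LieClassical.OrthTrans
open Cfsg.Agent.LieClassical.OrthSimple Cfsg.Agent.LieClassical.OrthFinite
open Cfsg.Agent.LieClassical.OrthForms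

variable {F : Type*} [Field F] {m : ℕ} {a b : F}

/-- the isometry inverting the torus -/
def J0 (m : ℕ) (a : F) : VV m F →ₗ[F] VV m F where
  toFun v := Sum.elim (Sum.elim (fun i => v (Sum.inl (Sum.inr i))) (fun i => v (Sum.inl (Sum.inl i))))
    ![v (Sum.inr 0) + a * v (Sum.inr 1), -v (Sum.inr 1)]
  map_add' v w := by
    funext j
    rcases j with (j | j) | j
    · rfl
    · rfl
    · fin_cases j
      · simp only [_root_.Pi.add_apply, _root_.Fin.isValue, _root_.neg_add_rev, _root_.Fin.zero_eta, _root_.Sum.elim_inr, _root_.Matrix.cons_val_zero]; ring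
      · simp only [_root_.Pi.add_apply, _root_.Fin.isValue, _root_.neg_add_rev, _root_.Fin.mk_one, _root_.Sum.elim_inr, _root_.Matrix.cons_val_one, _root_.Matrix.cons_val_fin_one]; ring
  map_smul' c v := by
    funext j
    rcases j with (j | j) | j
    · rfl
    · rfl
    · fin_cases j
      · simp only [_root_.Pi.smul_apply, _root_.smul_eq_mul, _root_.Fin.isValue, _root_.Fin.zero_eta, _root_.Sum.elim_inr, _root_.Matrix.cons_val_zero, _root_.RingHom.id_apply]; ring
      · simp only [_root_.Pi.smul_apply, _root_.smul_eq_mul, _root_.Fin.isValue, _root_.Fin.mk_one, _root_.Sum.elim_inr, _root_.Matrix.cons_val_one, _root_.Matrix.cons_val_fin_one, _root_.RingHom.id_apply, _root_.mul_neg]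

theorem J0_J0 : Function.Involutive (J0 m a) := by
  intro v
  funext j
  rcases j with (j | j) | j
  · rfl
  · rfl
  · fin_cases j
    · change (v (Sum.inr 0) + a * v (Sum.inr 1)) + a * -v (Sum.inr 1) = v (Sum.inr 0)
      ring
    · change - -v (Sum.inr 1) = v (Sum.inr 1)
      ring

/-- the isometry inverting the torus -/
def JJ (m : ℕ) (a : F) : VV m F ≃ₗ[F] VV m F := LinearEquiv.ofInvolutive (J0 m a) J0_J0

theorem JJ_JJ (v : VV m F) : JJ m a (JJ m a v) = v := J0_J0 v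

theorem JJ_inv : (JJ m a)⁻¹ = JJ m a := by
  rw [inv_eq_iff_mul_eq_one]
  ext1 v
  exact JJ_JJ v

theorem JJ_mem : JJ m a ∈ O (minusForm m F a b) := by
  refine mem_O.2 fun v => ?_
  rw [coe_minusForm, quadFormMinus_apply, quadFormMinus_apply]
  have h1 : ∀ i, JJ m a v (Sum.inl (Sum.inl i)) = v (Sum.inl (Sum.inr i)) := fun _ => rfl
  have h2 : ∀ i, JJ m a v (Sum.inl (Sum.inr i)) = v (Sum.inl (Sum.inl i)) := fun _ => rfl
  have h3 : JJ m a v (Sum.inr 0) = v (Sum.inr 0) + a * v (Sum.inr 1) := rfl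
  have h4 : JJ m a v (Sum.inr 1) = -v (Sum.inr 1) := rfl
  simp only [h1, h2, h3, h4]
  have h5 : ∑ i : Fin m, v (Sum.inl (Sum.inr i)) * v (Sum.inl (Sum.inl i)) =
      ∑ i : Fin m, v (Sum.inl (Sum.inl i)) * v (Sum.inl (Sum.inr i)) :=
    Finset.sum_congr rfl fun i _ => mul_comm _ _
  rw [h5]
  ring

theorem JJ_io (z : KK a b) : JJ m a (io m a b z) = io m a b (star z) := by
  funext j
  rcases j with (j | j) | j
  · rfl
  · rfl
  · fin_cases j
    · rfl
    · rfl

variable (hab : ∀ z₁ z₂ : F, z₁ ^ 2 + a * z₁ * z₂ + b * z₂ ^ 2 = 0 → z₁ = 0 ∧ z₂ = 0)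

theorem JJ_t (i : Fin m) : JJ m a ((FF m hab).b (i, true)) = (FF m hab).b (i, false) := by
  have e1 : (FF m hab).b (i, true) = Pi.single (Sum.inl (Sum.inl i)) 1 := rfl
  have e2 : (FF m hab).b (i, false) = Pi.single (Sum.inl (Sum.inr i)) 1 := rfl
  rw [e1, e2]
  funext j
  rcases j with (j | j) | j
  · change (Pi.single (Sum.inl (Sum.inl i)) 1 : VV m F) (Sum.inl (Sum.inr j)) = _
    simp
  · change (Pi.single (Sum.inl (Sum.inl i)) 1 : VV m F) (Sum.inl (Sum.inl j)) = _
    simp [Pi.single_apply]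
  · fin_cases j
    · change (Pi.single (Sum.inl (Sum.inl i)) 1 : VV m F) (Sum.inr 0) +
        a * (Pi.single (Sum.inl (Sum.inl i)) 1 : VV m F) (Sum.inr 1) = _
      simp
    · change -(Pi.single (Sum.inl (Sum.inl i)) 1 : VV m F) (Sum.inr 1) = _
      simp

theorem JJ_b (x : Fin m × Bool) : JJ m a ((FF m hab).b x) = (1 : F) • (FF m hab).b (ng x) := by
  rw [one_smul]
  obtain ⟨i, s⟩ := x
  cases s
  · have h1 : (FF m hab).b (ng (i, false)) = JJ m a (JJ m a ((FF m hab).b (i, true))) := (JJ_JJ _).symm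
    rw [h1, JJ_t]
  · exact JJ_t hab i

variable [Finite F] [CharP F 2]

theorem JJ_iso : (HO (minusForm m F a b)).IsIso (JJ m a) := fun v w => polar_map JJ_mem v w

theorem conj_J {x : Fin m → ℤ} {W : Type*} [Group W] (cs : CoxeterSystem (CoxeterMatrix.B m) W)
    (hx : IsRoot cs (isCartan m) x) {g : VV m F ≃ₗ[F] VV m F} (hg : g ∈ rg (FF m hab) x) :
    JJ m a * g * (JJ m a)⁻¹ ∈ rg (FF m hab) (-x) := by
  have O := orth (m := m) hab
  obtain ⟨c, d, hcd, e⟩ := exists_of_isRoot cs hx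
  have e' : ee (-x) = wt (ng c) + wt (ng d) := by
    rw [ee_neg, e, wt_ng, wt_ng]; abel
  rw [rg_eq _ hcd e] at hg
  rw [rg_eq _ hcd.ng e']
  rcases hcd with hcd | rfl
  · rw [PG_ne _ hcd] at hg
    obtain ⟨t, rfl⟩ := hg
    rw [PG_ne (FF m hab) (a := ng c) (b := ng d) hcd, mem_XG,
      conj_X (FF m hab) JJ_iso hcd (x' := ng c) (y' := ng d) hcd (JJ_b hab c) (JJ_b hab d)]
    exact ⟨_, rfl⟩
  · rw [PG_self] at hg ⊢
    obtain ⟨p, rfl⟩ := hg
    obtain ⟨z, rfl⟩ := adm_surj hab p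
    rw [mem_ZG, conj_Z (FF m hab) JJ_iso (JJ_b hab c) (adm hab m z) (adm hab m (star z))
      (by rw [adm_w, adm_w, JJ_io]) (by rw [adm_c, adm_c, QuadraticAlgebra.norm_star])]
    exact ⟨_, rfl⟩

variable {hab}

theorem Dt.inv' {g : VV m F ≃ₗ[F] VV m F} {l : Fin m → F} {u : KK a b} (h : Dt hab g l u) :
    JJ m a * g⁻¹ * (JJ m a)⁻¹ = g := by
  have huu := mul_star_of_norm h.nu
  refine Dt.ext (hab := hab) (l := l) (u := u) ⟨conj_mem_E JJ_mem (inv_mem h.mem), h.ne, h.nu, fun i => ?_, fun i => ?_,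
    fun z => ?_⟩ h
  · rw [JJ_inv, mul_apply', mul_apply', JJ_t]
    have h1 : g⁻¹ ((FF m hab).b (i, false)) = l i • (FF m hab).b (i, false) := by
      apply inv_apply_of
      rw [map_smul, h.f, smul_smul, mul_inv_cancel₀ (h.ne i), one_smul]
    rw [h1, map_smul, JJ_b, one_smul]
    rfl
  · rw [JJ_inv, mul_apply', mul_apply', JJ_b, one_smul]
    have h1 : g⁻¹ ((FF m hab).b (ng (i, false))) = (l i)⁻¹ • (FF m hab).b (ng (i, false)) := by
      apply inv_apply_of
      change g ((l i)⁻¹ • (FF m hab).b (i, true)) = (FF m hab).b (i, true)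
      rw [map_smul, h.t, smul_smul, inv_mul_cancel₀ (h.ne i), one_smul]
    rw [h1, map_smul, JJ_b, one_smul]
    rfl
  · rw [JJ_inv, mul_apply', mul_apply', JJ_io]
    have h1 : g⁻¹ (io m a b (star z)) = io m a b (star u * star z) := by
      apply inv_apply_of
      rw [h.v, ← mul_assoc, huu, one_mul]
    rw [h1, JJ_io, ← star_mul, star_star, mul_comm]

variable (hab)

/-! ### the anti-automorphism of `PΩ` -/

/-- the anti-automorphism `y ↦ J y⁻¹ J⁻¹` -/
noncomputable def th (hm : 2 ≤ m) (y : Cfsg.POmega F ⇑(minusForm m F a b)) : Cfsg.POmega F ⇑(minusForm m F a b) :=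
  (modelMinus hm a b hab).φ ⟨JJ m a * ((Function.surjInv (phi_surj hab hm) y : (modelMinus hm a b hab).I) :
    VV m F ≃ₗ[F] VV m F)⁻¹ * (JJ m a)⁻¹, conj_mem_E JJ_mem (inv_mem (Function.surjInv (phi_surj hab hm) y).2)⟩

theorem th_phi (hm : 2 ≤ m) {g : VV m F ≃ₗ[F] VV m F} (hg : g ∈ (modelMinus hm a b hab).I) :
    th hab hm ((modelMinus hm a b hab).φ ⟨g, hg⟩) =
      (modelMinus hm a b hab).φ ⟨JJ m a * g⁻¹ * (JJ m a)⁻¹, conj_mem_E JJ_mem (inv_mem hg)⟩ := by
  have h1 : Function.surjInv (phi_surj hab hm) ((modelMinus hm a b hab).φ ⟨g, hg⟩) = ⟨g, hg⟩ :=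
    phi_inj hab hm (Function.surjInv_eq (phi_surj hab hm) _)
  unfold th
  congr 1
  apply Subtype.ext
  change JJ m a * ((Function.surjInv (phi_surj hab hm) ((modelMinus hm a b hab).φ ⟨g, hg⟩) :
    (modelMinus hm a b hab).I) : VV m F ≃ₗ[F] VV m F)⁻¹ * (JJ m a)⁻¹ = _
  simp only [h1]

theorem th_mul (hm : 2 ≤ m) (x y : Cfsg.POmega F ⇑(minusForm m F a b)) :
    th hab hm (x * y) = th hab hm y * th hab hm x := by
  obtain ⟨⟨g, hg⟩, rfl⟩ := phi_surj hab hm x
  (have h_ob := phi_surj hab hm y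
   revert h_ob; rintro (⟨⟨k, hk⟩, rfl⟩))
  refine (congrArg (th hab hm) (gmul70 (modelMinus hm a b hab).φ (z := ⟨g * k, mul_mem hg hk⟩) rfl).symm).trans ?_
  refine (th_phi hab hm _).trans (Eq.trans ?_ (congrArg₂ (· * ·) (th_phi hab hm hk) (th_phi hab hm hg)).symm)
  refine gmul70 (modelMinus hm a b hab).φ (Subtype.ext ?_)
  change JJ m a * (g * k)⁻¹ * (JJ m a)⁻¹ = (JJ m a * k⁻¹ * (JJ m a)⁻¹) * (JJ m a * g⁻¹ * (JJ m a)⁻¹)
  group

theorem th_th (hm : 2 ≤ m) (x : Cfsg.POmega F ⇑(minusForm m F a b)) : th hab hm (th hab hm x) = x := by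
  obtain ⟨⟨g, hg⟩, rfl⟩ := phi_surj hab hm x
  refine (congrArg (th hab hm) (th_phi hab hm hg)).trans ?_
  refine (th_phi hab hm (g := JJ m a * g⁻¹ * (JJ m a)⁻¹) (conj_mem_E JJ_mem (inv_mem hg))).trans ?_
  refine congrArg (modelMinus hm a b hab).φ (Subtype.ext ?_)
  change JJ m a * (JJ m a * g⁻¹ * (JJ m a)⁻¹)⁻¹ * (JJ m a)⁻¹ = g
  have h1 : JJ m a * JJ m a = 1 := by
    have := inv_mul_cancel (JJ m a)
    rwa [JJ_inv] at this
  calc JJ m a * (JJ m a * g⁻¹ * (JJ m a)⁻¹)⁻¹ * (JJ m a)⁻¹ = (JJ m a * JJ m a) * g * (JJ m a * JJ m a)⁻¹ := by group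
    _ = g := by rw [h1]; group

theorem th_T (hm : 2 ≤ m) {t : Cfsg.POmega F ⇑(minusForm m F a b)}
    (ht : t ∈ Nodes.WittModel.T (modelMinus hm a b hab)) : th hab hm t = t := by
  have : Fact (∀ r : F, r ^ 2 ≠ -b + a * r) := fact_of hab
  obtain ⟨g, l, u, h, rfl⟩ := (mem_T hab hm).1 ht
  refine (th_phi hab hm h.mem).trans ?_
  congr 1
  exact Subtype.ext h.inv'

theorem th_X (hm : 2 ≤ m) {W : Type*} [Group W] (cs : CoxeterSystem (CoxeterMatrix.B m) W) {x : Fin m → ℤ}
    (hx : IsRoot cs (isCartan m) x) {u : Cfsg.POmega F ⇑(minusForm m F a b)}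
    (hu : u ∈ Nodes.WittModel.X (modelMinus hm a b hab) x) :
    th hab hm u ∈ Nodes.WittModel.X (modelMinus hm a b hab) (-x) := by
  obtain ⟨g, hg, h1, rfl⟩ := (Nodes.WittModel.mem_X _).1 hu
  ((conv => enter [@5]; rw [th_phi]))
  exact (Nodes.WittModel.mem_X _).2 ⟨_, conj_mem_E JJ_mem (inv_mem hg), conj_J hab cs hx (inv_mem h1), rfl⟩

/-! ### The frame -/

/-- an admissible pair -/
noncomputable def q0 (m : ℕ) {a b : F}
    (hab : ∀ z₁ z₂ : F, z₁ ^ 2 + a * z₁ * z₂ + b * z₂ ^ 2 = 0 → z₁ = 0 ∧ z₂ = 0) : (FF m hab).Adm :=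
  (orth_minus (F := F) CharTwo.two_eq_zero m a b hab).p0.choose

theorem q0_ne : (q0 m hab).c ≠ 0 := (orth_minus (F := F) CharTwo.two_eq_zero m a b hab).p0.choose_spec

/-- the representatives of the simple reflections -/
noncomputable def nw (hm : 2 ≤ m) (i : Fin m) : Cfsg.POmega F ⇑(minusForm m F a b) :=
  (modelMinus hm a b hab).φ ⟨Nodes.WittRGD.nn (FF m hab) (q0 m hab) i,
    Nodes.WittAll.nn_mem (ambT_minus CharTwo.two_eq_zero hm a b hab) (q0 m hab) i⟩

variable {W : Type*} [Group W] (cs : CoxeterSystem (CoxeterMatrix.B m) W)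

/-- **the root group datum** -/
theorem rgd (hm : 2 ≤ m) : RGD cs (isCartan m) 2 (Nodes.WittModel.T (modelMinus hm a b hab)) (nw hab hm)
    (Nodes.WittModel.X (modelMinus hm a b hab)) := by
  have : Fact (Nat.Prime 2) := ⟨Nat.prime_two⟩
  exact Nodes.WittAll.rgdC_model (modelMinus hm a b hab) (ambT_minus CharTwo.two_eq_zero hm a b hab) (q0_ne hab) cs

theorem GG_eq (hm : 2 ≤ m) : Nodes.Bruhat.GG cs (isCartan m) (Nodes.WittModel.T (modelMinus hm a b hab))
    (Nodes.WittModel.X (modelMinus hm a b hab)) = ⊤ := by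
  have h1 := Nodes.WittModel.G1_eq_top (modelMinus hm a b hab) (by omega) cs
  (rewrite [eq_top_iff]; (conv => enter [@3]; rw [← h1]))
  exact le_sup_right

/-- **the anti-automorphism** -/
theorem anti [Finite W] (hm : 2 ≤ m) : H148.GG.Anti (rgd hab cs hm) (th hab hm) :=
  H148.GG.anti_of_root (rgd hab cs hm) (GG_eq hab cs hm) (th_mul hab hm) (th_th hab hm) (fun _ ht => th_T hab hm ht)
    fun _ hx _ hu => th_X hab hm cs hx hu

include hab in
theorem finite_Y (hm : 2 ≤ m) : Finite (Cfsg.POmega F ⇑(minusForm m F a b)) := by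
  have : Finite (VV m F ≃ₗ[F] VV m F) :=
    Finite.of_injective (fun g : VV m F ≃ₗ[F] VV m F => (g : VV m F → VV m F)) DFunLike.coe_injective
  exact Finite.of_surjective _ (phi_surj hab hm)

/-- **the nonsimple positive root groups are generated by commutators** -/
theorem commGen (hm : 2 ≤ m) : Omega.EH3.Kf.Lev.CommGen cs (isCartan m)
    (Nodes.WittModel.X (modelMinus hm a b hab)) := fun _ hr h0 hs =>
  (Omega.EH3.Kf.TwWitt.gd_of_surj (modelMinus hm a b hab) (Omega.EH3.Kf.OMinusBd.exists_h_minus a b hab)).gen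
    cs hr h0 hs

section

variable [Hab : Fact (∀ r : F, r ^ 2 ≠ -b + a * r)]

/-- **the coordinates of the torus are faithful** -/
theorem eq_one_of_a (hm : 2 ≤ m) (t : Nodes.WittModel.T (modelMinus hm a b hab))
    (ht : ∀ i, (adj hab hm).a i t = 1) : t = 1 :=
  have : Finite (CoxeterMatrix.B m).Group := finite_W (CoxeterMatrix.B m).toCoxeterSystem
  H148.GG.faithful (rgd hab (CoxeterMatrix.B m).toCoxeterSystem hm) (GG_eq hab _ hm)
    (fun _ hs _ ht => comm_T hab hm hs ht) (center_eq_bot hab hm) (adj hab hm) t ht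

/-- **linear characters of `U`** -/
theorem lin [Finite W] (hm : 2 ≤ m)
    (f : ↥(H40.OC.UU cs (isCartan m) (Nodes.WittModel.X (modelMinus hm a b hab))) →* ℂˣ)
    (u : ↥(H40.OC.UU cs (isCartan m) (Nodes.WittModel.X (modelMinus hm a b hab))))
    (hu : ∀ i, H40.OC.co (rgd hab cs hm) (adj hab hm) i u = 1) : f u = 1 :=
  H148.GG.lin_of_commGen (rgd hab cs hm) (commGen hab cs hm) (adj hab hm) f u hu

end

end Cfsg.Agent.H857.OM
end

private theorem dce_3d114c248204 : _root_.True := by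
  try have : _root_.True := by simp only [_root_.Cfsg.Agent.H857.OM.al.eq_1]
  try have : _root_.True := by simp only [_root_.Cfsg.Agent.TitsThree.WittFrame.Frame.mk.congr_simp]
  try have : _root_.True := by simp only [_root_.Cfsg.Agent.TitsThree.WBridge.toFrame.eq_1]
  try have : _root_.True := by simp only [_root_.Cfsg.Agent.TitsThree.SiegelGen.WFrame.mk.congr_simp]
  try have : _root_.True := by simp only [_root_.Cfsg.Agent.H857.OM.SF.eq_1]
  try have : _root_.True := by simp only [_root_.Cfsg.Agent.Nodes.WittInst.wplus.eq_1]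
  exact _root_.True.intro
end

-- part: H379/GG/PslRow
section
prune_inst 0x4b000790434a20000000000800100202404000002000808000041020003010202290108412630000340380810200c000000000080402000000a000000000001000000000210000108400090000080000000000000000000000000000000000004000000000
set_option linter.all false
open scoped Cfsg.Agent.FastGrp

-- part: H846/OwnB/Defs
section
/-!
# S4884, own characteristic: the interface (helper846)

* `Half r l S` : for every `l`-modular ideal, the principal `l`-block of `S` contains a nontrivial character of degree prime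
  to `r l`;
* `half_of_frame` : `Half` for a normal subgroup `S` of a group `Y` with an adjoint frame
  (`R : RGD`, `D : Adj`, `hN` of `H40.OC`, `hc` : the multiplicities are `0, 1, -1`).
-/

set_option autoImplicit false

open scoped ComplexConjugate
open Cfsg

namespace Cfsg.Agent.H846.OwnB

open Cfsg.Agent.OddOrderCharacters.Clifford Cfsg.Agent.Characters
open Cfsg.Agent.H53.HC Cfsg.Agent.H641.Gow Cfsg.Agent.H148.GG Cfsg.Agent.H40.OC

open CoxeterSystem Cfsg.Agent.ChevalleyStructure.CoxeterGeom Cfsg.Agent.Tits.Roots Cfsg.Agent.Tits.Core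
  Cfsg.Agent.Tits.Exchange Cfsg.Agent.Nodes.Reps Cfsg.Agent.Nodes.BNOf Cfsg.Agent.Nodes.StabComb
  Cfsg.Agent.Nodes.Bruhat Cfsg.Agent.Nodes.OppDec Cfsg.Agent.Nodes.LeviDec

universe u

/-- the principal `l`-block of `S` contains a nontrivial character of degree prime to `r l` -/
def Half (r l : ℕ) (S : Type u) [Group S] : Prop :=
  ∀ M : Ideal AlgInt, IsPModular l M → ∃ θ : IrrCharacter S, θ ∈ principalBlock M S ∧
    (θ : S → ℂ) ≠ (fun _ => (1 : ℂ)) ∧ ¬ l ∣ charDegree (θ : S → ℂ) ∧ ¬ r ∣ charDegree (θ : S → ℂ)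

theorem Half.congr {r l : ℕ} {S : Type u} [Group S] [Finite S] {S' : Type*} [Group S'] (e : S ≃* S')
    (h : Half r l S') : Half r l S := by
  intro M hM
  obtain ⟨θ, h1, h2, h3, h4⟩ := h M hM
  refine ⟨⟨_, Core.isIrr_comp (e : S →* S') e.surjective θ.2⟩, H493.RatB.mem_principalBlock_comp e h1,
    fun h6 => h2 ?_, ?_, ?_⟩
  · funext y
    obtain ⟨x, rfl⟩ := e.surjective y
    exact congrFun h6 x
  · show ¬ l ∣ charDegree (fun x : S => (θ : S' → ℂ) (e x))
    rwa [H706.PB.charDegree_comp]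
  · show ¬ r ∣ charDegree (fun x : S => (θ : S' → ℂ) (e x))
    rwa [H706.PB.charDegree_comp]

/-! ### frames -/

section

variable {I W : Type*} {Y : Type u} [Fintype I] [DecidableEq I] [Group W] [Group Y] {M : CoxeterMatrix I}
  {cs : CoxeterSystem M W} {A : I → I → ℤ} {h : IsCartan M A} {p : ℕ} {T : Subgroup Y} {n : I → Y}
  {X : (I → ℤ) → Subgroup Y}

variable (R : RGD cs h p T n X) {F : I → Type*} [∀ i, Field (F i)] (D : Adj T X F)

end

end Cfsg.Agent.H846.OwnB
end

-- part: H379/GG/PslRow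
section
/-!
# S4884, own characteristic: the rows of `PSL_n` (helper379)

* `rowB_psl_two` : characteristic two;
* `multOne_psl` : the Gelfand-Graev characters of the Levi subgroups of `PGL_n` are multiplicity free (all characteristics);
* `rowB_psl_odd` : odd characteristic `q`;
* `half_psl` : `Half p l (PSL_{n+1}(F))`, `F` of characteristic `p`, `l ≠ p` a prime divisor of the order.
-/

set_option autoImplicit false
set_option linter.unusedSectionVars false

namespace Cfsg.Agent.H379.GG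

open Cfsg Matrix CoxeterSystem Cfsg.Agent.ChevalleyStructure.CoxeterGeom Cfsg.Agent.Tits.Roots Cfsg.Agent.Tits.Core
open Cfsg.Agent.Nodes.Reps Cfsg.Agent.Nodes.BNOf Cfsg.Agent.Nodes.RGDLib Cfsg.Agent.Nodes.Bruhat
open Cfsg.Agent.Nodes
open Cfsg.Agent.Nodes.RGDTypeA (tv_val tv_inj)
open Cfsg.Agent.H148.GG (Adj Anti Nd)
open Cfsg.Agent.H40.OC (UU cor rowB_two rowB_odd)
open Cfsg.Agent.H743.GG (MultOne multOne_pin)
open Cfsg.Agent.LieRecognition.BNCox (cA)
open Cfsg.Agent.LieClassical.SLGen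
open Cfsg.Agent.TitsThree.KSideA (tv tv_of_ne tv_add tv_zero tv_neg tv_comm tv_commute)

universe u

theorem card_psl_eq {n : ℕ} {F : Type*} [Field F] :
    Nat.card (ProjectiveSpecialLinearGroup (Fin (n + 1)) F) = Nat.card ↥(qs n F).range :=
  Nat.card_congr pslEquiv.toEquiv

/-- **`PSL_{n+1}(F)`, characteristic two** -/
theorem rowB_psl_two (n : ℕ) (F : Type u) [Field F] [Finite F] [CharP F 2] {q : ℕ} (hq : q.Prime) (hq2 : q ≠ 2)
    (hd : q ∣ Nat.card (ProjectiveSpecialLinearGroup (Fin (n + 1)) F)) :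
    H706.PB.RowB q (ProjectiveSpecialLinearGroup (Fin (n + 1)) F) := by
  have : Fact (Nat.Prime 2) := ⟨Nat.prime_two⟩
  have hW : Finite (cA n).Group := RootsA.finite_W (cA n).toCoxeterSystem (RootsA.isCartan n)
  have hY : Finite (PG n F) := Finite.of_surjective _ pg_surjective
  have hS : ((qs n F).range).Normal := normal_range
  refine H706.PB.RowB.congr pslEquiv ?_
  exact rowB_two (rgdP (cA n).toCoxeterSystem (RootsA.isCartan n) (F := F) (p := 2)) (adjP n F)
    (GGP_eq_top (cA n).toCoxeterSystem (RootsA.isCartan n)) eq_one_of_aP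
    (antiP (cA n).toCoxeterSystem (RootsA.isCartan n)) (hNP (cA n).toCoxeterSystem (RootsA.isCartan n))
    (UU_le_range (cA n).toCoxeterSystem (RootsA.isCartan n)) hq hq2 (card_psl_eq (F := F) (n := n) ▸ hd)

/-! ### multiplicity one in all characteristics -/

section Mult

variable {n : ℕ} {F : Type*} [Field F]

/-- different root groups -/
theorem qs_tv_eq {a b c d : Fin (n + 1)} (hab : a ≠ b) (hcd : c ≠ d) {s t : F} (hs : s ≠ 0)
    (e : qs n F (tv a b s) = qs n F (tv c d t)) : a = c ∧ b = d ∧ s = t := by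
  have h1 : tv a b s * (tv c d t)⁻¹ ∈ (qs n F).ker := by
    rw [MonoidHom.mem_ker, map_mul, map_inv, e, mul_inv_cancel]
  obtain ⟨r, -, hr⟩ := Matrix.SpecialLinearGroup.mem_center_iff.1 (ker_qs_le h1)
  have h2 : (tv a b s).1 = (scalar (Fin (n + 1)) r) * (tv c d t).1 := by
    rw [hr]
    change _ = ((tv a b s * (tv c d t)⁻¹) * tv c d t).1
    rw [inv_mul_cancel_right]
  rw [tv_val hab, tv_val hcd, Matrix.scalar_apply] at h2
  have ent : ∀ i j, (1 + Matrix.single a b s : Matrix (Fin (n + 1)) (Fin (n + 1)) F) i j =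
      r * (1 + Matrix.single c d t : Matrix (Fin (n + 1)) (Fin (n + 1)) F) i j := by
    intro i j
    rw [h2, Matrix.diagonal_mul]
  have hr1 : r = 1 := by
    have h3 := ent a a
    rw [Matrix.add_apply, Matrix.add_apply, Matrix.one_apply_eq, Matrix.single_apply_of_ne, Matrix.single_apply_of_ne] at h3
    · simpa using h3.symm
    · rintro ⟨h4, h5⟩
      exact hcd (h4.trans h5.symm)
    · rintro ⟨-, h5⟩
      exact hab h5.symm
  have h3 := ent a b
  rw [hr1, one_mul, Matrix.add_apply, Matrix.add_apply, Matrix.one_apply_ne hab, Matrix.single_apply_same, zero_add,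
    zero_add, Matrix.single_apply] at h3
  by_cases h4 : c = a ∧ d = b
  · rw [if_pos h4] at h3
    exact ⟨h4.1.symm, h4.2.symm, h3⟩
  · rw [if_neg h4] at h3
    exact absurd h3 hs

/-- `g` acts on the root elements by scalars -/
def Sc (g : PG n F) : Prop := ∀ a b : Fin (n + 1), a ≠ b → ∃ a' b' : Fin (n + 1), a' ≠ b' ∧ ∃ c : F, c ≠ 0 ∧
  ∀ s, g * qs n F (tv a b s) * g⁻¹ = qs n F (tv a' b' (c * s))

theorem Sc.mul {g k : PG n F} (hg : Sc g) (hk : Sc k) : Sc (g * k) := by
  intro a b hab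
  obtain ⟨a', b', hab', c, hc, e⟩ := hk a b hab
  obtain ⟨a₂, b₂, hab₂, c₂, hc₂, e₂⟩ := hg a' b' hab'
  refine ⟨a₂, b₂, hab₂, c₂ * c, mul_ne_zero hc₂ hc, fun s => ?_⟩
  rw [mul_assoc c₂, ← e₂, ← e]
  group

theorem Sc.one : Sc (1 : PG n F) := fun a b hab => ⟨a, b, hab, 1, one_ne_zero, fun s => by
  rw [one_mul, inv_one, mul_one, one_mul]⟩

theorem sc_nP (i : Fin n) : Sc (nP n F i) := by
  intro a b hab
  have hm := RGDTypeA.mono_ns (F := F) i
  refine ⟨_, _, fun e => hab ((Equiv.swap i.castSucc i.succ).injective e), (RGDTypeA.ns n F i).1 _ a *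
    ((RGDTypeA.ns n F i).1 _ b)⁻¹, mul_ne_zero (hm.apply_ne_zero a) (inv_ne_zero (hm.apply_ne_zero b)), fun s => ?_⟩
  have h1 := congrArg (qs n F) (hm.conj_tv hab s)
  rw [map_mul, map_mul, map_inv] at h1
  rw [show (RGDTypeA.ns n F i).1 (Equiv.swap i.castSucc i.succ a) a *
    ((RGDTypeA.ns n F i).1 (Equiv.swap i.castSucc i.succ b) b)⁻¹ * s =
    (RGDTypeA.ns n F i).1 (Equiv.swap i.castSucc i.succ a) a * s *
    ((RGDTypeA.ns n F i).1 (Equiv.swap i.castSucc i.succ b) b)⁻¹ by ring]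
  exact h1

theorem sc_dT {t : PG n F} (ht : t ∈ dT n F) : Sc t := by
  obtain ⟨d, rfl⟩ := mem_dT.1 ht
  intro a b hab
  refine ⟨a, b, hab, (d a : F) * (((d b)⁻¹ : Fˣ) : F), mul_ne_zero (d a).ne_zero ((d b)⁻¹).ne_zero, fun s => ?_⟩
  rw [dP_conj d hab]
  congr 2
  ring

theorem nn_eq' {a b : Fin (n + 1)} (hab : a ≠ b) :
    RGDTypeA.nn a b (1 : F) = tv b a (-1) * tv a b 1 * tv b a (-1) := by
  apply smul_ext
  intro v
  rw [tv_of_ne hab, tv_of_ne hab.symm]
  ext l
  simp only [RGDTypeA.nn_smul hab one_ne_zero, mul_smul, transvection_smul, inv_one]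
  by_cases hl : l = a
  · subst hl
    simp [hab, hab.symm]
  · by_cases hl' : l = b
    · subst hl'
      simp [hab, hab.symm]
    · simp [hl, hl']

/-- `n_i = f_i e_i f_i` -/
theorem nP_eq' (i : Fin n) : nP n F i = fP n F i * eP n F i * fP n F i := by
  unfold nP RGDTypeA.ns eP fP
  rw [nn_eq' (Fin.castSucc_lt_succ (i := i)).ne, map_mul, map_mul]

variable {W : Type*} [Group W] (cs : CoxeterSystem (cA n) W) {A : Fin n → Fin n → ℤ} (h : IsCartan (cA n) A)

theorem sc_rp [Finite F] {p : ℕ} [Fact p.Prime] [CharP F p] (R : RGD cs h p (dT n F) (nP n F) (XP n F)) {w : W}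
    {g : PG n F} (hg : Rp cs R.nsys w g) : Sc g := by
  obtain ⟨ω, rfl⟩ := cs.wordProd_surjective w
  have h1 := H92.GG.rp_word R ω
  have h2 : g = (ω.map (nP n F)).prod * ((ω.map (nP n F)).prod⁻¹ * g) := by group
  rw [h2]
  refine Sc.mul ?_ (sc_dT (h1.unique hg))
  clear h2 h1 hg
  induction ω with
  | nil => exact Sc.one
  | cons i ω ih =>
    rw [List.map_cons, List.prod_cons]
    exact (sc_nP i).mul ih

/-- **the pinning** -/
theorem pinP : H92.GG.Pin cs h (nP n F) (XP n F) Set.univ (eP n F) where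
  mem i _ := eP_mem i
  mu i _ := ⟨fP n F i, fP_mem i, fP n F i, fP_mem i, nP_eq' i⟩
  braid i j hij _ := by
    have hval : i.val ≠ j.val := fun e => hij (Fin.ext e)
    by_cases h1 : i.val + 1 = j.val ∨ j.val + 1 = i.val
    · have h2 : (cA n) i j = 3 := by
        change Cfsg.Agent.LieRecognition.CoxClass.mA i.val j.val = 3
        unfold Cfsg.Agent.LieRecognition.CoxClass.mA
        rw [if_neg hval, if_pos h1]
      rw [h2]
      change (([i, j, i] : List (Fin n)).map (nP n F)).prod = (([j, i, j] : List (Fin n)).map (nP n F)).prod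
      simp only [List.map_cons, List.map_nil, List.prod_cons, List.prod_nil, mul_one]
      rcases h1 with h1 | h1
      · rw [← mul_assoc, ← mul_assoc, braidP h1]
      · rw [← mul_assoc, ← mul_assoc, braidP h1]
    · have h2 : (cA n) i j = 2 := by
        change Cfsg.Agent.LieRecognition.CoxClass.mA i.val j.val = 2
        unfold Cfsg.Agent.LieRecognition.CoxClass.mA
        rw [if_neg hval, if_neg h1]
      rw [h2]
      change (([i, j] : List (Fin n)).map (nP n F)).prod = (([j, i] : List (Fin n)).map (nP n F)).prod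
      simp only [List.map_cons, List.map_nil, List.prod_cons, List.prod_nil, mul_one]
      rcases Nat.lt_or_gt_of_ne hval with h3 | h3
      · exact commP (by omega)
      · exact (commP (by omega)).symm

/-- helper92's form of the anti-automorphism -/
theorem antiP' : H92.GG.Anti cs h (dT n F) (XP n F) (phi n F) :=
  ⟨phi_mul, phi_phi, fun _ ha _ hx => phi_root cs h ha hx, fun _ ht => phi_dT ht⟩

variable [Finite W] [Finite F] {p : ℕ} [Fact p.Prime] [CharP F p]

/-- the nondegenerate character -/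
noncomputable def psiP (e : Multiplicative F →* ℂˣ) : ↥(UJ cs h (XP n F) Set.univ) →* ℂˣ :=
  (∏ i, e.comp (Cfsg.Agent.H40.OC.co (rgdP cs h (F := F) (p := p)) (adjP n F) i)).comp
    (Subgroup.inclusion (Cfsg.Agent.Nodes.Bruhat.UJ_le_U (cs := cs) (h := h) (X := XP n F) Set.univ))

theorem psiP_apply (e : Multiplicative F →* ℂˣ) {u : PG n F} (hu : u ∈ UJ cs h (XP n F) Set.univ)
    (hu' : u ∈ UU cs h (XP n F)) : psiP cs h (p := p) e ⟨u, hu⟩ =
      ∏ i, e (Cfsg.Agent.H40.OC.co (rgdP cs h (F := F) (p := p)) (adjP n F) i ⟨u, hu'⟩) := by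
  unfold psiP
  rw [MonoidHom.comp_apply, MonoidHom.finsetProd_apply]
  rfl

theorem psiP_simple (e : Multiplicative F →* ℂˣ) (i : Fin n) (s : F)
    (hu : qs n F (tv i.castSucc i.succ s) ∈ UJ cs h (XP n F) Set.univ) :
    psiP cs h (p := p) e ⟨_, hu⟩ = e (Multiplicative.ofAdd s) := by
  have hu' : qs n F (tv i.castSucc i.succ s) ∈ UU cs h (XP n F) := by
    have := hu
    rwa [UJ_univ] at this
  have hx : qs n F (tv i.castSucc i.succ s) ∈ XP n F (sr i) := by
    rw [← RootsA.rtA_sr]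
    exact (mem_XP_rtA (Fin.castSucc_lt_succ).ne).2 ⟨s, rfl⟩
  rw [psiP_apply cs h e hu hu', Finset.prod_eq_single i]
  · congr 1
    rw [Cfsg.Agent.H40.OC.co_apply, Cfsg.Agent.H40.OC.cor_X _ i hx hu']
    exact xP_eq i rfl
  · intro j _ hji
    rw [Cfsg.Agent.H40.OC.co_ne _ _ hji hx hu', map_one]
  · intro h1
    exact absurd (Finset.mem_univ _) h1

theorem psiP_nd {e : Multiplicative F →* ℂˣ} (he : e ≠ 1) :
    Nd cs h (XP n F) Set.univ (psiP cs h (p := p) e) where
  triv x hx hns u hu' hu := by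
    have hU : u ∈ UU cs h (XP n F) := by
      have := hu'
      rwa [UJ_univ] at this
    let f : ↥(UU cs h (XP n F)) →* ℂˣ :=
      ∏ i, e.comp (Cfsg.Agent.H40.OC.co (rgdP cs h (F := F) (p := p)) (adjP n F) i)
    exact hom_nonsimple cs h f x ⟨hx.1, hx.2.1⟩ hns u hu hU
  ne i _ := by
    obtain ⟨s, hs⟩ : ∃ s, e s ≠ 1 := by
      by_contra hcon
      push Not at hcon
      exact he (MonoidHom.ext hcon)
    have hx : qs n F (tv i.castSucc i.succ (Multiplicative.toAdd s)) ∈ XP n F (sr i) := by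
      rw [← RootsA.rtA_sr]
      exact (mem_XP_rtA (Fin.castSucc_lt_succ).ne).2 ⟨_, rfl⟩
    have hU : qs n F (tv i.castSucc i.succ (Multiplicative.toAdd s)) ∈ UJ cs h (XP n F) Set.univ := by
      rw [UJ_univ]
      exact RGD.le_Sup (S := RGD.Pos cs h) ⟨isRoot_sr cs h i, sr_nonneg i⟩ hx
    exact ⟨_, hU, hx, by rw [psiP_simple]; exact hs⟩

theorem scalar_one {e : Multiplicative F →* ℂˣ} (he : e ≠ 1) {c : F}
    (hc : ∀ s : F, e (Multiplicative.ofAdd (c * s)) = e (Multiplicative.ofAdd s)) : c = 1 := by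
  by_contra hcon
  apply he
  refine MonoidHom.ext fun t => ?_
  have h0 : c - 1 ≠ 0 := sub_ne_zero.2 hcon
  have h1 := hc ((c - 1)⁻¹ * Multiplicative.toAdd t)
  have h2 : Multiplicative.ofAdd (c * ((c - 1)⁻¹ * Multiplicative.toAdd t)) =
      t * Multiplicative.ofAdd ((c - 1)⁻¹ * Multiplicative.toAdd t) := by
    apply Multiplicative.toAdd.injective
    change c * ((c - 1)⁻¹ * Multiplicative.toAdd t) = Multiplicative.toAdd t + (c - 1)⁻¹ * Multiplicative.toAdd t
    have h3 : (c - 1) * ((c - 1)⁻¹ * Multiplicative.toAdd t) = Multiplicative.toAdd t := by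
      rw [← mul_assoc, mul_inv_cancel₀ h0, one_mul]
    linear_combination h3
  rw [h2, map_mul, mul_eq_right] at h1
  rw [h1]
  rfl

/-- **the Gelfand-Graev characters of the Levi subgroups of `PGL` are multiplicity free** -/
theorem multOne_psl (n : ℕ) (F : Type*) [Field F] [Finite F] (p : ℕ) [Fact p.Prime] [CharP F p] {W : Type*} [Group W]
    [Finite W] (cs : CoxeterSystem (cA n) W) {A : Fin n → Fin n → ℤ} (h : IsCartan (cA n) A) :
    MultOne cs h (dT n F) (XP n F) := by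
  have hY : Finite (PG n F) := Finite.of_surjective _ pg_surjective
  obtain ⟨e, he⟩ := Cfsg.Agent.H40.OC.exists_char F
  have R := rgdP cs h (F := F) (p := p)
  refine multOne_pin R (adjP n F) (antiP' cs h) (pinP cs h) (psiP_nd cs h (p := p) he) ?_
  intro i _ j _ w g _ hg hwij hx
  obtain ⟨a, b, hab, c, hc, hact⟩ := sc_rp cs h R hg i.succ i.castSucc (Fin.castSucc_lt_succ (i := i)).ne'
  have hmem : ∀ s : F, qs n F (tv i.castSucc i.succ s) ∈ XP n F (sr i) := fun s => by
    rw [← RootsA.rtA_sr]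
    exact (mem_XP_rtA (Fin.castSucc_lt_succ).ne).2 ⟨s, rfl⟩
  have hphi : ∀ s : F, g * phi n F (qs n F (tv i.castSucc i.succ s)) * g⁻¹ = qs n F (tv a b (c * s)) := fun s => by
    rw [phi_tv (Fin.castSucc_lt_succ (i := i)).ne, hact]
  have hj : ∀ s : F, qs n F (tv a b (c * s)) ∈ XP n F (sr j) := by
    intro s
    rw [← hphi]
    have h4 := R.conj_mem hg (isRoot_sr cs h i).neg (phi_root cs h (isRoot_sr cs h i) (hmem s))
    rwa [map_neg, hwij] at h4
  obtain ⟨t, ht⟩ := (mem_XP_rtA (Fin.castSucc_lt_succ (i := j)).ne).1 (by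
    have := hj 1
    rwa [← RootsA.rtA_sr] at this)
  obtain ⟨rfl, rfl, -⟩ := qs_tv_eq hab (Fin.castSucc_lt_succ (i := j)).ne (by rwa [mul_one]) ht.symm
  have hU : ∀ (k : Fin n) (s : F), qs n F (tv k.castSucc k.succ s) ∈ UJ cs h (XP n F) Set.univ := fun k s => by
    rw [UJ_univ]
    refine RGD.le_Sup (S := RGD.Pos cs h) ⟨isRoot_sr cs h k, sr_nonneg k⟩ ?_
    rw [← RootsA.rtA_sr]
    exact (mem_XP_rtA (Fin.castSucc_lt_succ).ne).2 ⟨s, rfl⟩
  have hc1 : c = 1 := by
    refine scalar_one he fun s => ?_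
    have h1 := hx _ (hmem s)
    rw [hphi, H92.GG.ext_of_mem _ (hU j _), H92.GG.ext_of_mem _ (hU i _), psiP_simple, psiP_simple] at h1
    exact h1
  change g * phi n F (qs n F (tv i.castSucc i.succ 1)) * g⁻¹ = _
  rw [hphi, hc1, one_mul]
  rfl

end Mult

end Cfsg.Agent.H379.GG
end
end

-- part: H553/AF/QAct
section
set_option linter.all false
open scoped Cfsg.Agent.FastGrp

/-!
# The action of a normaliser on a quotient by scalars (S4829, frames of type D; helper553)

* `QM I φ` : `φ : I ↠ K` whose kernel consists of all scalars of `I`;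
* `qact : N(I) →* MulAut K`; `qact_φ`, `qact_of_mem`, `qact_smul`.
-/

set_option autoImplicit false
set_option linter.unusedSectionVars false

namespace Cfsg.Agent.H553.AF

variable {F : Type*} [Field F] {V : Type*} [AddCommGroup V] [Module F V] {K : Type*} [Group K]
  {I : Subgroup (V ≃ₗ[F] V)} {φ : ↥I →* K}

/-- a quotient of a group of linear maps by its scalars -/
structure QM (I : Subgroup (V ≃ₗ[F] V)) (φ : ↥I →* K) : Prop where
  surj : Function.Surjective φ
  sc : ∀ k : ↥I, φ k = 1 → ∀ v, ∃ a : F, k.1 v = a • v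
  ker : ∀ k : ↥I, (∀ v, ∃ a : F, k.1 v = a • v) → φ k = 1

theorem QM.conj_ker (h : QM I φ) (g : V ≃ₗ[F] V) (k : ↥I) (hk : φ k = 1) (hm : g * k.1 * g⁻¹ ∈ I) :
    φ ⟨g * k.1 * g⁻¹, hm⟩ = 1 := by
  refine h.ker _ fun v => ?_
  obtain ⟨a, ha⟩ := h.sc k hk (g⁻¹ v)
  refine ⟨a, ?_⟩
  change g (k.1 (g⁻¹ v)) = a • v
  rw [ha, map_smul]
  congr 1
  exact g.apply_symm_apply v

/-- conjugation on `I` -/
def qI (g : ↥(Subgroup.normalizer (I : Set (V ≃ₗ[F] V)))) : MulAut ↥I := I.normalizerMonoidHom g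

theorem qI_coe (g : ↥(Subgroup.normalizer (I : Set (V ≃ₗ[F] V)))) (k : ↥I) :
    ((qI g k : ↥I) : V ≃ₗ[F] V) = g.1 * k.1 * g.1⁻¹ := rfl

theorem QM.congr (h : QM I φ) (g : ↥(Subgroup.normalizer (I : Set (V ≃ₗ[F] V)))) {k k' : ↥I}
    (e : φ k = φ k') : φ (qI g k) = φ (qI g k') := by
  have h1 : φ (k⁻¹ * k') = 1 := by rw [map_mul, map_inv, e, inv_mul_cancel]
  have h2 := h.conj_ker g.1 (k⁻¹ * k') h1 (qI g (k⁻¹ * k')).2
  have h3 : φ (qI g (k⁻¹ * k')) = 1 := h2
  rw [map_mul, map_inv, map_mul, map_inv, inv_mul_eq_one] at h3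
  exact h3

theorem qI_inv (g : ↥(Subgroup.normalizer (I : Set (V ≃ₗ[F] V)))) (k : ↥I) : qI g⁻¹ (qI g k) = k := by
  apply Subtype.ext
  rw [qI_coe, qI_coe]
  have : (g⁻¹ : ↥(Subgroup.normalizer (I : Set (V ≃ₗ[F] V)))).1 = g.1⁻¹ := rfl
  rw [this]; group

theorem qI_inv' (g : ↥(Subgroup.normalizer (I : Set (V ≃ₗ[F] V)))) (k : ↥I) : qI g (qI g⁻¹ k) = k := by
  apply Subtype.ext
  rw [qI_coe, qI_coe]
  have : (g⁻¹ : ↥(Subgroup.normalizer (I : Set (V ≃ₗ[F] V)))).1 = g.1⁻¹ := rfl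
  rw [this]; group

/-- the automorphism of `K` induced by an element normalising `I` -/
noncomputable def qactE (h : QM I φ) (g : ↥(Subgroup.normalizer (I : Set (V ≃ₗ[F] V)))) : MulAut K where
  toFun y := φ (qI g (Function.surjInv h.surj y))
  invFun y := φ (qI g⁻¹ (Function.surjInv h.surj y))
  left_inv y := by
    have e : φ (Function.surjInv h.surj (φ (qI g (Function.surjInv h.surj y)))) =
        φ (qI g (Function.surjInv h.surj y)) := Function.surjInv_eq h.surj _
    refine (h.congr g⁻¹ e).trans ?_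
    rw [qI_inv]
    exact Function.surjInv_eq h.surj y
  right_inv y := by
    have e : φ (Function.surjInv h.surj (φ (qI g⁻¹ (Function.surjInv h.surj y)))) =
        φ (qI g⁻¹ (Function.surjInv h.surj y)) := Function.surjInv_eq h.surj _
    refine (h.congr g e).trans ?_
    rw [qI_inv']
    exact Function.surjInv_eq h.surj y
  map_mul' y y' := by
    rw [← map_mul, ← map_mul]
    exact h.congr g (by
      rw [map_mul, Function.surjInv_eq h.surj, Function.surjInv_eq h.surj, Function.surjInv_eq h.surj])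

theorem qactE_φ (h : QM I φ) (g : ↥(Subgroup.normalizer (I : Set (V ≃ₗ[F] V)))) (k : ↥I) :
    qactE h g (φ k) = φ (qI g k) := h.congr g (Function.surjInv_eq h.surj _)

/-- **the action of the normaliser of `I` on `K`** -/
noncomputable def qact (h : QM I φ) : ↥(Subgroup.normalizer (I : Set (V ≃ₗ[F] V))) →* MulAut K where
  toFun g := qactE h g
  map_one' := by
    ext y
    obtain ⟨k, rfl⟩ := h.surj y
    rw [qactE_φ]
    have e : qI (1 : ↥(Subgroup.normalizer (I : Set (V ≃ₗ[F] V)))) k = k := by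
      apply Subtype.ext
      rw [qI_coe]
      simp
    rw [e]
    rfl
  map_mul' g g' := by
    ext y
    obtain ⟨k, rfl⟩ := h.surj y
    rw [MulAut.mul_apply, qactE_φ, qactE_φ, qactE_φ]
    have e : qI (g * g') k = qI g (qI g' k) := by
      apply Subtype.ext
      rw [qI_coe, qI_coe, qI_coe]
      have : (g * g').1 = g.1 * g'.1 := rfl
      rw [this]; group
    rw [e]

theorem qact_φ (h : QM I φ) (g : ↥(Subgroup.normalizer (I : Set (V ≃ₗ[F] V)))) (k : ↥I) :
    qact h g (φ k) = φ (qI g k) := qactE_φ h g k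

theorem qact_of_mem (h : QM I φ) (k : ↥I) : qact h ⟨k.1, Subgroup.le_normalizer k.2⟩ = MulAut.conj (φ k) := by
  ext y
  obtain ⟨k', rfl⟩ := h.surj y
  rw [qact_φ, MulAut.conj_apply, ← map_inv, ← map_mul, ← map_mul]
  rfl

/-- `qact` only depends on the element up to scalars -/
theorem qact_smul (h : QM I φ) {g g' : ↥(Subgroup.normalizer (I : Set (V ≃ₗ[F] V)))} {c : F}
    (e : ∀ v, g.1 v = c • g'.1 v) : qact h g = qact h g' := by
  ext y
  obtain ⟨k, rfl⟩ := h.surj y
  rw [qact_φ, qact_φ]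
  congr 1
  apply Subtype.ext
  rw [qI_coe, qI_coe, mul_inv_eq_iff_eq_mul]
  ext v
  have e1 : ∀ v, g'.1⁻¹ (g'.1 v) = v := fun v => g'.1.symm_apply_apply v
  change g.1 (k.1 v) = g'.1 (k.1 (g'.1⁻¹ (g.1 v)))
  rw [e, e v, map_smul, e1, map_smul, map_smul]

end Cfsg.Agent.H553.AF
end

-- part: H553/AF/PlusD
section
prune_inst 0x4f0200b0114a200000004000200004081210000920003080000070240024100220901264112000001401008000005000000000020402000000a000400000000001880000221000008400096000080000000000000000000000000000000000000000000000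
set_option linter.all false
open scoped Cfsg.Agent.FastGrp

/-!
# The adjoint frame of type `D` of `PΩ⁺` (S4829, own characteristic; helper553)

`W` a hyperbolic Witt frame of a quadratic form `Q`, `K = PΩ(Q) = E Q / scalars`.

* `pr z` : the pair of signed indices of a root; `xc z t` : the root element;
* `DS` : the diagonal similitudes, `DD ≤ MulAut K` its image; `sys : H928.Ad.Sys`;
* `data : H928.Ad.Data` and `anti` for the plus form.
-/

set_option autoImplicit false
set_option linter.unusedSectionVars false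

namespace Cfsg.Agent.H553.AF.PlusD

open Cfsg QuadraticMap Cfsg.Agent.Nodes
open Cfsg.Agent.ChevalleyStructure.CoxeterGeom Cfsg.Agent.Tits.Roots
open Cfsg.Agent.Nodes.TypeC (wt wt_apply ng ng_ng ng_fst ng_snd wt_ng)
open Cfsg.Agent.Nodes.TypeD
open Cfsg.Agent.Nodes.Comb Cfsg.Agent.Nodes.Reps Cfsg.Agent.Nodes.WittRoot Cfsg.Agent.Nodes.BNOf
open Cfsg.Agent.Nodes.WittRGD (Tor mem_Tor)
open Cfsg.Agent.Nodes.WittInst Cfsg.Agent.Nodes.Bruhat Cfsg.Agent.Nodes.RGDLib
open Cfsg.Agent.TitsThree Cfsg.Agent.TitsThree.Siegel Cfsg.Agent.TitsThree.SiegelGen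
  Cfsg.Agent.TitsThree.WittFrame Cfsg.Agent.TitsThree.WittWeyl Cfsg.Agent.TitsThree.WBridge
  Cfsg.Agent.TitsThree.KSideO
open Cfsg.Agent.LieClassical Cfsg.Agent.LieClassical.OrthCore Cfsg.Agent.LieClassical.OrthTrans
open Cfsg.Agent.LieClassical.OrthSimple Cfsg.Agent.LieClassical.OrthFinite
open Cfsg.Agent.H553.AF Cfsg.Agent.H845.OC Cfsg.Agent.H151.OwnO

variable {n : ℕ}

/-! ### the pair of a root -/

/-- a pair of signed indices with `ee z = wt a + wt b` -/
noncomputable def pr (z : Fin (n + 2) → ℤ) : (Fin (n + 2) × Bool) × (Fin (n + 2) × Bool) := by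
  classical
  exact if h : ∃ q : (Fin (n + 2) × Bool) × (Fin (n + 2) × Bool), Ok q.1 q.2 ∧ ee z = wt q.1 + wt q.2 then h.choose
    else ((0, true), (1, true))

theorem pr_ok (z : Fin (n + 2) → ℤ) : (pr z).1.1 ≠ (pr z).2.1 := by
  unfold pr
  split_ifs with h
  · exact h.choose_spec.1
  · simp [Fin.ext_iff]

theorem pr_root {W : Type*} [Group W] {cs : CoxeterSystem (M n) W} {z : Fin (n + 2) → ℤ}
    (hz : IsRoot cs (isCartan n) z) : ee z = wt (pr z).1 + wt (pr z).2 := by
  have h' : ∃ q : (Fin (n + 2) × Bool) × (Fin (n + 2) × Bool), Ok q.1 q.2 ∧ ee z = wt q.1 + wt q.2 := by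
    obtain ⟨a, b, h1, h2⟩ := exists_of_isRoot cs hz
    exact ⟨(a, b), h1, h2⟩
  unfold pr
  rw [dif_pos h']
  exact h'.choose_spec.2

theorem pr_eq {W : Type*} [Group W] {cs : CoxeterSystem (M n) W} {z : Fin (n + 2) → ℤ}
    (hz : IsRoot cs (isCartan n) z) {a b : Fin (n + 2) × Bool} (hab : Ok a b) (e : ee z = wt a + wt b) :
    (a = (pr z).1 ∧ b = (pr z).2) ∨ (a = (pr z).2 ∧ b = (pr z).1) :=
  wt_add_eq hab (pr_ok z) (e.symm.trans (pr_root hz))

attribute [irreducible] pr

section Gen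

variable {ι : Type} [Fintype ι] [DecidableEq ι] {F : Type*} [Field F] {Q : QuadraticForm F (ι → F)}
  (W : WFrame (PO Q) (n + 2))

theorem X_swap' {x y : Fin (n + 2) × Bool} (h : x.1 ≠ y.1) (t : F) :
    (toFrame W).X x y t = (toFrame W).X y x (-t) := by
  have h1 := (toFrame W).X_swap h t
  rw [eta, eta, mul_one, mul_one] at h1
  have h2 : -((HO Q).ε⁻¹ * (HO Q).σ t) = -t := by
    change -((1 : F)⁻¹ * t) = -t
    rw [inv_one, one_mul]
  rwa [h2] at h1

/-- conjugation by a similitude -/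
theorem conj_root {k : F} {g : (ι → F) ≃ₗ[F] (ι → F)} (hg : IsSim (HO Q) k g) {x y x' y' : Fin (n + 2) × Bool}
    (h : x.1 ≠ y.1) (h' : x'.1 ≠ y'.1) {l m : F} (hx : g ((toFrame W).b x) = l • (toFrame W).b x')
    (hy : g ((toFrame W).b y) = m • (toFrame W).b y') (t : F) :
    g * (toFrame W).X x y t * g⁻¹ = (toFrame W).X x' y' (l * m * k⁻¹ * t) := by
  rw [conj_X_sim (toFrame W) hg h h' hx hy t, eta, eta]
  congr 1
  change l * m * k⁻¹ * (1 : F)⁻¹ * 1 * t = _
  rw [inv_one, mul_one, mul_one]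

/-! ### the model -/

/-- **`E Q → PΩ(Q)` is the quotient by the scalars** -/
theorem qm (hG : _root_.Cfsg.Agent.LieClassical.OrthTrans.Good Q) : QM (E Q) (toPOmega hG) where
  surj := toPOmega_surjective hG
  sc k hk v := (scalar_of_center hG (center_of_toPOmega hG hk)).imp fun _ h => h v
  ker k hk := by
    have h1 : toOmega hG k ∈ Subgroup.center (Cfsg.Omega F ⇑Q) := by
      rw [Subgroup.mem_center_iff]
      intro A
      have hob_ := (toOmega hG).surjective A
      obtain ⟨a, rfl⟩ := hob_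
      have e : a * k = k * a := by
        apply Subtype.ext
        ext1 v
        exact comm_of_lines hk a.1 v
      rw [← map_mul, ← map_mul, e]
    exact (QuotientGroup.eq_one_iff _).2 h1

variable (hG : _root_.Cfsg.Agent.LieClassical.OrthTrans.Good Q)

/-- the root element of a pair -/
noncomputable def xb (q : (Fin (n + 2) × Bool) × (Fin (n + 2) × Bool)) (t : F) : Cfsg.POmega F ⇑Q :=
  toPOmega hG ⟨(toFrame W).X q.1 q.2 t, X_mem W _ _ _⟩

/-- **the coordinates** -/
noncomputable def xc (z : Fin (n + 2) → ℤ) (t : F) : Cfsg.POmega F ⇑Q := xb W hG (pr z) t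

theorem xb_add (q : (Fin (n + 2) × Bool) × (Fin (n + 2) × Bool)) (s t : F) :
    xb W hG q (s + t) = xb W hG q s * xb W hG q t := by
  unfold xb
  rw [← map_mul]
  exact congrArg (toPOmega hG) (Subtype.ext ((toFrame W).X_add q.1 q.2 s t))

theorem xb_neg (q : (Fin (n + 2) × Bool) × (Fin (n + 2) × Bool)) (t : F) : xb W hG q (-t) = (xb W hG q t)⁻¹ := by
  unfold xb
  rw [← map_inv]
  exact congrArg (toPOmega hG) (Subtype.ext ((toFrame W).X_neg q.1 q.2 t))

theorem xb_inj {q : (Fin (n + 2) × Bool) × (Fin (n + 2) × Bool)} (h : q.1.1 ≠ q.2.1) :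
    Function.Injective (xb W hG q) := by
  intro s t e
  have h1 : xb W hG q (t - s) = 1 := by
    rw [sub_eq_add_neg, xb_add, xb_neg, e, mul_inv_cancel]
  obtain ⟨a, ha⟩ := (qm hG).sc _ h1 ((toFrame W).b (neg q.2))
  have ha' : (toFrame W).X q.1 q.2 (t - s) ((toFrame W).b (neg q.2)) = a • (toFrame W).b (neg q.2) := ha
  rw [X_apply_neg (toFrame W) h] at ha'
  have h3 : (t - s) • (toFrame W).b q.1 = (a - 1) • (toFrame W).b (neg q.2) := by
    rw [sub_smul a, one_smul, ← ha']; abel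
  have h4 := congrArg (fun v => (HO Q).h v ((toFrame W).b (neg q.1))) h3
  simp only [(HO Q).smul_left] at h4
  have h5 : (HO Q).h ((toFrame W).b (neg q.2)) ((toFrame W).b (neg q.1)) = 0 :=
    (toFrame W).hb_of_ne (fun h' => h h'.symm)
  rw [h5, mul_zero, (toFrame W).hb_self_neg] at h4
  rcases mul_eq_zero.1 h4 with h6 | h6
  · exact (sub_eq_zero.1 h6).symm
  · exact absurd h6 ((toFrame W).η_ne _)

theorem mem_XD {G : Type*} [Group G] {cs : CoxeterSystem (M n) G} {z : Fin (n + 2) → ℤ}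
    (hz : IsRoot cs (isCartan n) z) (k : Cfsg.POmega F ⇑Q) :
    k ∈ XD W (toPOmega hG) z ↔ ∃ a : F, xc W hG z a = k := by
  unfold XD
  rw [WittRGDD.rg_eq (toFrame W) (pr_ok z) (pr_root hz)]
  constructor
  · rintro ⟨g, ⟨t, ht⟩, rfl⟩
    exact ⟨t, congrArg (toPOmega hG) (Subtype.ext ht.symm)⟩
  · rintro ⟨a, rfl⟩
    exact ⟨⟨_, X_mem W _ _ _⟩, ⟨a, rfl⟩, rfl⟩

/-! ### the action on the root elements -/

theorem qact_xb {k : F} {g : ↥(Subgroup.normalizer ((E Q : Subgroup ((ι → F) ≃ₗ[F] (ι → F))) : Set ((ι → F) ≃ₗ[F] (ι → F))))}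
    (hg : IsSim (HO Q) k g.1) {q q' : (Fin (n + 2) × Bool) × (Fin (n + 2) × Bool)}
    (h : q.1.1 ≠ q.2.1) (h' : q'.1.1 ≠ q'.2.1) {l m : F} (hx : g.1 ((toFrame W).b q.1) = l • (toFrame W).b q'.1)
    (hy : g.1 ((toFrame W).b q.2) = m • (toFrame W).b q'.2) (t : F) :
    qact (qm hG) g (xb W hG q t) = xb W hG q' (l * m * k⁻¹ * t) := by
  unfold xb
  rw [qact_φ]
  exact congrArg (toPOmega hG) (Subtype.ext (conj_root W hg h h' hx hy t))

/-- the same with the pair exchanged -/
theorem qact_xb' {k : F} {g : ↥(Subgroup.normalizer ((E Q : Subgroup ((ι → F) ≃ₗ[F] (ι → F))) : Set ((ι → F) ≃ₗ[F] (ι → F))))}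
    (hg : IsSim (HO Q) k g.1) {q q' : (Fin (n + 2) × Bool) × (Fin (n + 2) × Bool)}
    (h : q.1.1 ≠ q.2.1) (h' : q'.1.1 ≠ q'.2.1) {l m : F} (hx : g.1 ((toFrame W).b q.1) = l • (toFrame W).b q'.2)
    (hy : g.1 ((toFrame W).b q.2) = m • (toFrame W).b q'.1) (t : F) :
    qact (qm hG) g (xb W hG q t) = xb W hG q' (-(l * m * k⁻¹) * t) := by
  have h1 : xb W hG q t = xb W hG (q.2, q.1) (-t) := congrArg (toPOmega hG) (Subtype.ext (X_swap' W h t))
  rw [h1, qact_xb W hG hg (q := (q.2, q.1)) (q' := q') h.symm h' hy hx]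
  congr 1
  ring

theorem mono_xb {k : F} {g : ↥(Subgroup.normalizer ((E Q : Subgroup ((ι → F) ≃ₗ[F] (ι → F))) : Set ((ι → F) ≃ₗ[F] (ι → F))))}
    (hg : IsSim (HO Q) k g.1) {π : Fin (n + 2) × Bool → Fin (n + 2) × Bool} (hm : Mono (toFrame W) g.1 π)
    {q q' : (Fin (n + 2) × Bool) × (Fin (n + 2) × Bool)} (h : q.1.1 ≠ q.2.1) (h' : q'.1.1 ≠ q'.2.1)
    (e : (π q.1 = q'.1 ∧ π q.2 = q'.2) ∨ (π q.1 = q'.2 ∧ π q.2 = q'.1)) :
    ∃ c : F, c ≠ 0 ∧ ∀ a, qact (qm hG) g (xb W hG q a) = xb W hG q' (c * a) := by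
  have hob_ := hm q.1
  obtain ⟨l, hl0, hl⟩ := hob_
  have hob_ := hm q.2
  obtain ⟨m, hm0, hm'⟩ := hob_
  have hc : l * m * k⁻¹ ≠ 0 := mul_ne_zero (mul_ne_zero hl0 hm0) (inv_ne_zero hg.ne)
  rcases e with ⟨e1, e2⟩ | ⟨e1, e2⟩
  · rw [e1] at hl
    rw [e2] at hm'
    exact ⟨_, hc, fun a => qact_xb W hG hg h h' hl hm' a⟩
  · rw [e1] at hl
    rw [e2] at hm'
    exact ⟨_, neg_ne_zero.2 hc, fun a => qact_xb' W hG hg h h' hl hm' a⟩

/-! ### the Weyl elements -/

variable (hA : Amb (toFrame W) (E Q))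

/-- the Weyl elements of `K` -/
noncomputable def nk (i : Fin (n + 2)) : Cfsg.POmega F ⇑Q :=
  toPOmega hG ⟨WittRGDD.nn (toFrame W) i, WittRGDD.nn_mem hA i⟩

theorem isSim_of_mem {k : (ι → F) ≃ₗ[F] (ι → F)} (hk : k ∈ E Q) : IsSim (HO Q) 1 k := (QSim.of_O (E_le_O hk)).isSim

theorem conj_eq (k : ↥(E Q)) : MulAut.conj (toPOmega hG k) = qact (qm hG) ⟨k.1, Subgroup.le_normalizer k.2⟩ :=
  (qact_of_mem (qm hG) k).symm

theorem nact {G : Type*} [Group G] (cs : CoxeterSystem (M n) G) (i : Fin (n + 2)) {z : Fin (n + 2) → ℤ}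
    (hz : IsRoot cs (isCartan n) z) :
    ∃ c : F, c ≠ 0 ∧ ∀ a, nk W hG hA i * xc W hG z a * (nk W hG hA i)⁻¹ =
      xc W hG (rep cs (isCartan n) (cs.simple i) z) (c * a) := by
  have hz' := hz.act (cs.simple i)
  have h3 : ee (rep cs (isCartan n) (cs.simple i) z) = wt (sg i (pr z).1) + wt (sg i (pr z).2) := by
    rw [rep_simple]
    exact ee_refl_of (pr_root hz)
  have h4 := pr_eq hz' (Ok.sg (pr_ok z) i) h3
  obtain ⟨c, hc, e⟩ := mono_xb W hG (g := ⟨WittRGDD.nn (toFrame W) i, Subgroup.le_normalizer (WittRGDD.nn_mem hA i)⟩)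
    (isSim_of_mem (WittRGDD.nn_mem hA i)) (WittRGDD.mono_nn i) (pr_ok z)
    (pr_ok (rep cs (isCartan n) (cs.simple i) z)) h4
  refine ⟨c, hc, fun a => ?_⟩
  rw [← MulAut.conj_apply]
  unfold nk
  rw [conj_eq hG]
  exact e a

theorem tact {G : Type*} [Group G] (cs : CoxeterSystem (M n) G) {z : Fin (n + 2) → ℤ}
    (hz : IsRoot cs (isCartan n) z) {t : Cfsg.POmega F ⇑Q}
    (ht : t ∈ ((Tor (toFrame W) (E Q)).subgroupOf (E Q)).map (toPOmega hG)) :
    ∃ c : F, c ≠ 0 ∧ ∀ a, t * xc W hG z a * t⁻¹ = xc W hG z (c * a) := by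
  have _ := hz
  obtain ⟨k, hk, rfl⟩ := ht
  have hk' : k.1 ∈ Tor (toFrame W) (E Q) := hk
  have hob_ := mono_xb W hG (g := ⟨k.1, Subgroup.le_normalizer k.2⟩)
    (isSim_of_mem k.2) hk'.2 (pr_ok z) (pr_ok z) (Or.inl ⟨rfl, rfl⟩)
  obtain ⟨c, hc, e⟩ := hob_
  refine ⟨c, hc, fun a => ?_⟩
  rw [← MulAut.conj_apply, conj_eq hG]
  exact e a

/-- **the system of coordinates** -/
theorem sys {G : Type*} [Group G] (cs : CoxeterSystem (M n) G) :
    Cfsg.Agent.H928.Ad.Sys (K := fun _ => F) cs (isCartan n) (((Tor (toFrame W) (E Q)).subgroupOf (E Q)).map (toPOmega hG))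
      (nk W hG hA) (XD W (toPOmega hG)) (xc W hG) where
  mem _ hz k := mem_XD W hG hz k
  inj z _ := xb_inj W hG (pr_ok z)
  add _ _ a b := xb_add W hG _ a b
  tor _ hz _ ht := tact W hG cs hz ht
  nact i _ hz := by
    obtain ⟨c, hc, e⟩ := nact W hG hA cs i hz
    exact ⟨RingEquiv.refl F, c, hc, e⟩

/-! ### the torus of diagonal similitudes -/

/-- the diagonal similitudes -/
def DS : Subgroup ((ι → F) ≃ₗ[F] (ι → F)) where
  carrier := {g | (∃ l, QSim Q l g) ∧ Mono (toFrame W) g id}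
  one_mem' := by
    refine ⟨⟨1, one_ne_zero, fun v => ?_⟩, fun x => ⟨1, one_ne_zero, ?_⟩⟩
    · rw [one_mul]; rfl
    · rw [one_smul]; rfl
  mul_mem' := by
    rintro g g' ⟨⟨l, hl⟩, hm⟩ ⟨⟨l', hl'⟩, hm'⟩
    exact ⟨⟨_, hl.mul hl'⟩, (hm.mul hm').congr fun _ => rfl⟩
  inv_mem' := by
    rintro g ⟨⟨l, hl⟩, hm⟩
    exact ⟨⟨_, hl.inv⟩, (hm.inv fun _ => rfl).congr fun _ => rfl⟩

theorem DS_norm : DS W ≤ Subgroup.normalizer ((E Q : Subgroup ((ι → F) ≃ₗ[F] (ι → F))) : Set ((ι → F) ≃ₗ[F] (ι → F))) := by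
  rintro g ⟨⟨l, hl⟩, -⟩
  exact hl.norm

theorem tor_le_DS : Tor (toFrame W) (E Q) ≤ DS W := by
  rintro g hg
  exact ⟨⟨1, QSim.of_O (E_le_O hg.1)⟩, hg.2⟩

/-- **the torus of the adjoint group** -/
noncomputable def DD : Subgroup (MulAut (Cfsg.POmega F ⇑Q)) :=
  ((DS W).subgroupOf (Subgroup.normalizer ((E Q : Subgroup ((ι → F) ≃ₗ[F] (ι → F))) : Set ((ι → F) ≃ₗ[F] (ι → F))))).map
    (qact (qm hG))

theorem mem_DD {β : MulAut (Cfsg.POmega F ⇑Q)} :
    β ∈ DD W hG ↔ ∃ g : ↥(DS W), qact (qm hG) ⟨g.1, DS_norm W g.2⟩ = β := by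
  constructor
  · rintro ⟨g, hg, rfl⟩
    exact ⟨⟨g.1, hg⟩, rfl⟩
  · rintro ⟨g, rfl⟩
    exact ⟨⟨g.1, DS_norm W g.2⟩, g.2, rfl⟩

theorem DD_le {G : Type*} [Group G] (cs : CoxeterSystem (M n) G) :
    DD W hG ≤ Cfsg.Agent.H928.Ad.Dg (K := fun _ => F) cs (isCartan n) (xc W hG) := by
  intro β hβ z hz
  have _ := hz
  have hob_ := (mem_DD W hG).1 hβ
  obtain ⟨g, rfl⟩ := hob_
  have hob_ := g.2
  obtain ⟨⟨l, hl⟩, hm⟩ := hob_
  exact mono_xb W hG (g := ⟨g.1, DS_norm W g.2⟩) hl.isSim hm (pr_ok z) (pr_ok z) (Or.inl ⟨rfl, rfl⟩)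

include hA in
theorem nn_norm (i : Fin (n + 2)) :
    WittRGDD.nn (toFrame W) i ∈ Subgroup.normalizer (DS W : Set ((ι → F) ≃ₗ[F] (ι → F))) := by
  have hn := WittRGDD.nn_mem hA i
  have hm := WittRGDD.mono_nn (Fr := toFrame W) i
  have key : ∀ g : (ι → F) ≃ₗ[F] (ι → F), g ∈ E Q → Mono (toFrame W) g (sg i) → ∀ t ∈ DS W, g * t * g⁻¹ ∈ DS W := by
    rintro g hg hm t ⟨⟨l, hl⟩, hm'⟩
    refine ⟨⟨_, ((QSim.of_O (E_le_O hg)).mul hl).mul (QSim.of_O (E_le_O hg)).inv⟩, ?_⟩
    exact ((hm.mul hm').mul (hm.inv (sg_sg i))).congr fun x => sg_sg i x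
  rw [Subgroup.mem_normalizer_iff]
  intro t
  refine ⟨fun ht => key _ hn hm t ht, fun ht => ?_⟩
  have h1 := key _ (inv_mem hn) (hm.inv (sg_sg i)) _ ht
  have h2 : (WittRGDD.nn (toFrame W) i)⁻¹ * (WittRGDD.nn (toFrame W) i * t * (WittRGDD.nn (toFrame W) i)⁻¹) *
      (WittRGDD.nn (toFrame W) i)⁻¹⁻¹ = t := by group
  rwa [h2] at h1

theorem nk_norm (i : Fin (n + 2)) :
    MulAut.conj (nk W hG hA i) ∈ Subgroup.normalizer (DD W hG : Set (MulAut (Cfsg.POmega F ⇑Q))) := by
  unfold nk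
  rw [conj_eq hG, mem_normalizer_iff_cj]
  unfold DD
  rw [cj_map, cj_subgroupOf]
  exact congrArg (fun S => Subgroup.map (qact (qm hG)) (Subgroup.subgroupOf S _))
    (mem_normalizer_iff_cj.1 (nn_norm W hA i))

end Gen

/-! ### the plus form -/

section Plus

open Cfsg.Agent.LieClassical.OrthForms

variable (m : ℕ) (F : Type*) [Field F]

/-- diagonal maps -/
def dl (d : Fin m ⊕ Fin m → Fˣ) : (Fin m ⊕ Fin m → F) ≃ₗ[F] (Fin m ⊕ Fin m → F) :=
  LinearEquiv.piCongrRight fun j => LinearEquiv.smulOfNeZero F F (d j : F) (d j).ne_zero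

variable {F} in
theorem dl_apply (d : Fin m ⊕ Fin m → Fˣ) (v : Fin m ⊕ Fin m → F) (j : Fin m ⊕ Fin m) : dl m F d v j = d j * v j := rfl

/-- the index of a signed index -/
def ix (x : Fin m × Bool) : Fin m ⊕ Fin m := if x.2 then Sum.inl x.1 else Sum.inr x.1

theorem b_eq (x : Fin m × Bool) : (toFrame (wplus m F)).b x = Pi.single (ix m x) 1 := by
  obtain ⟨i, s⟩ := x
  cases s <;> rfl

theorem dl_b (d : Fin m ⊕ Fin m → Fˣ) (x : Fin m × Bool) :
    dl m F d ((toFrame (wplus m F)).b x) = (d (ix m x) : F) • (toFrame (wplus m F)).b x := by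
  rw [b_eq]
  funext j
  rw [dl_apply, Pi.smul_apply, smul_eq_mul]
  by_cases h : j = ix m x
  · rw [h]
  · rw [Pi.single_eq_of_ne h, mul_zero, mul_zero]

theorem dl_qsim {d : Fin m ⊕ Fin m → Fˣ} {l : Fˣ} (h : ∀ i, d (Sum.inl i) * d (Sum.inr i) = l) :
    QSim (plusForm m F) (l : F) (dl m F d) := by
  refine ⟨l.ne_zero, fun v => ?_⟩
  rw [coe_plusForm, quadFormPlus_apply, quadFormPlus_apply, Finset.mul_sum]
  refine Finset.sum_congr rfl fun i _ => ?_
  rw [dl_apply, dl_apply, ← h i, Units.val_mul]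
  ring

theorem dl_mem_DS {d : Fin (n + 2) ⊕ Fin (n + 2) → Fˣ} {l : Fˣ} (h : ∀ i, d (Sum.inl i) * d (Sum.inr i) = l) :
    dl (n + 2) F d ∈ DS (wplus (n + 2) F) :=
  ⟨⟨_, dl_qsim (n + 2) F h⟩, fun x => ⟨_, (d (ix _ x)).ne_zero, dl_b (n + 2) F d x⟩⟩

variable {m F}

theorem qact_dl (hG : _root_.Cfsg.Agent.LieClassical.OrthTrans.Good (plusForm (n + 2) F)) {d : Fin (n + 2) ⊕ Fin (n + 2) → Fˣ} {l : Fˣ}
    (h : ∀ i, d (Sum.inl i) * d (Sum.inr i) = l) (i : Fin (n + 2)) (a : F) :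
    qact (qm hG) ⟨dl (n + 2) F d, DS_norm _ (dl_mem_DS F h)⟩ (xc (wplus (n + 2) F) hG (sr i) a) =
      xc (wplus (n + 2) F) hG (sr i) ((d (Sum.inl i) * d (ix _ (nx i)) * l⁻¹ : Fˣ) * a) := by
  have hz := isRoot_sr (TypeD.M n).toCoxeterSystem (isCartan n) i
  have h1 := pr_eq hz (ok_nx i) (ee_sr i)
  unfold xc
  rw [qact_xb (wplus (n + 2) F) hG (g := ⟨dl (n + 2) F d, DS_norm _ (dl_mem_DS F h)⟩) (dl_qsim (n + 2) F h).isSim
    (pr_ok (sr i)) (pr_ok (sr i)) (dl_b (n + 2) F d _) (dl_b (n + 2) F d _)]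
  congr 2
  rw [Units.val_mul, Units.val_mul, Units.val_inv_eq_inv_val]
  congr 1
  rcases h1 with ⟨e1, e2⟩ | ⟨e1, e2⟩
  · rw [← e1, ← e2]
    rfl
  · rw [← e1, ← e2, mul_comm]
    rfl

theorem full_plus (hG : _root_.Cfsg.Agent.LieClassical.OrthTrans.Good (plusForm (n + 2) F)) (c : Fin (n + 2) → F) (hc : ∀ i, c i ≠ 0) :
    ∃ β ∈ DD (wplus (n + 2) F) hG, ∀ i a, β (xc (wplus (n + 2) F) hG (sr i) a) =
      xc (wplus (n + 2) F) hG (sr i) (c i * a) := by
  classical
  let cu : Fin (n + 2) → Fˣ := fun i => Units.mk0 (c i) (hc i)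
  let v : Fin (n + 2) → Fˣ := fun j => if (j : ℕ) + 1 < n + 2 then cu j else 1
  let D : Fin (n + 2) → Fˣ := fun k => ∏ j ∈ Finset.Ici k, v j
  let l : Fˣ := D (Fin.last (n + 1)) * D (pd n) * (cu (Fin.last (n + 1)))⁻¹
  let d : Fin (n + 2) ⊕ Fin (n + 2) → Fˣ := Sum.elim D (fun k => l * (D k)⁻¹)
  have hd : ∀ i, d (Sum.inl i) * d (Sum.inr i) = l := by
    intro i
    change D i * (l * (D i)⁻¹) = l
    rw [mul_comm l, mul_inv_cancel_left]
  refine ⟨qact (qm hG) ⟨dl (n + 2) F d, DS_norm _ (dl_mem_DS F hd)⟩,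
    (mem_DD _ hG).2 ⟨⟨dl (n + 2) F d, dl_mem_DS F hd⟩, rfl⟩, fun i a => ?_⟩
  rw [qact_dl hG hd i a]
  congr 2
  have key : D i * d (ix _ (nx i)) * l⁻¹ = cu i := by
    by_cases hi : (i : ℕ) + 1 < n + 2
    · have hnx : nx i = (⟨i + 1, hi⟩, false) := by unfold nx; rw [dif_pos hi]
      rw [hnx]
      change D i * (l * (D ⟨i + 1, hi⟩)⁻¹) * l⁻¹ = cu i
      have hI : Finset.Ici i = insert i (Finset.Ici (⟨i + 1, hi⟩ : Fin (n + 2))) := by
        ext j
        simp only [Finset.mem_Ici, Finset.mem_insert, Fin.le_def, Fin.ext_iff]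
        omega
      have hD : D i = v i * D ⟨i + 1, hi⟩ := by
        change ∏ j ∈ Finset.Ici i, v j = _
        rw [hI, Finset.prod_insert (by simp only [Fin.le_def, _root_.Finset.mem_Ici, _root_.add_le_iff_nonpos_right, _root_.nonpos_iff_eq_zero, _root_.one_ne_zero, _root_.not_false_eq_true])]
      have hv : v i = cu i := if_pos hi
      rw [hD, hv, mul_comm l, mul_assoc (cu i), mul_inv_cancel_left, mul_assoc, mul_inv_cancel, mul_one]
    · have hnx : nx i = (pd n, true) := by unfold nx; rw [dif_neg hi]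
      have hiL : i = Fin.last (n + 1) := by
        apply Fin.ext
        have := i.2
        simp only [Fin.val_last]
        omega
      rw [hnx, hiL]
      change D (Fin.last (n + 1)) * D (pd n) * (D (Fin.last (n + 1)) * D (pd n) * (cu (Fin.last (n + 1)))⁻¹)⁻¹ = _
      rw [mul_inv, inv_inv, mul_inv_cancel_left]
  exact congrArg Units.val key

variable [Finite F] {p : ℕ} [Fact p.Prime] [CharP F p]

include p in
theorem center_plus (hG : _root_.Cfsg.Agent.LieClassical.OrthTrans.Good (plusForm (n + 2) F)) : Subgroup.center (Cfsg.POmega F ⇑(plusForm (n + 2) F)) = ⊥ := by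
  have hs := isSimpleGroup_POmega_of_good hG
  have hob_ := hs.eq_bot_or_eq_top_of_normal (Subgroup.center (Cfsg.POmega F ⇑(plusForm (n + 2) F))) inferInstance
  rcases hob_ with h | h
  · exact h
  exfalso
  have : Finite (TypeD.M n).Group := finite_W (TypeD.M n).toCoxeterSystem
  have hR := rgdD_model (wplus (n + 2) F) hG (amb_plus _) (adm_plus _) (p := p) (TypeD.M n).toCoxeterSystem
  apply hR.notp 0
  have hN : (XD (wplus (n + 2) F) (toPOmega hG) (-sr 0)).Normal := by
    refine ⟨fun a ha g => ?_⟩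
    have h1 : g ∈ Subgroup.center (Cfsg.POmega F ⇑(plusForm (n + 2) F)) := by rw [h]; trivial
    have h2 := Subgroup.mem_center_iff.1 h1 a
    rw [← h2, mul_inv_cancel_right]
    exact ha
  have hz := isRoot_sr (TypeD.M n).toCoxeterSystem (isCartan n) 0
  exact (hR.pgrp' hz).to_sup_of_normal_right (hR.pgrp' hz.neg)

/-- **the adjoint frame of type `D` of `PΩ⁺`** -/
theorem data (hG : _root_.Cfsg.Agent.LieClassical.OrthTrans.Good (plusForm (n + 2) F)) {G : Type*} [Group G] (cs : CoxeterSystem (TypeD.M n) G) :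
    Cfsg.Agent.H928.Ad.Data (K := fun _ => F) cs (isCartan n) p
      (((Tor (toFrame (wplus (n + 2) F)) (E (plusForm (n + 2) F))).subgroupOf (E (plusForm (n + 2) F))).map (toPOmega hG))
      (nk (wplus (n + 2) F) hG (amb_plus _)) (XD (wplus (n + 2) F) (toPOmega hG)) (xc (wplus (n + 2) F) hG)
      (DD (wplus (n + 2) F) hG) where
  rgd := rgdD_model (wplus (n + 2) F) hG (amb_plus _) (adm_plus _) cs
  sys := sys (wplus (n + 2) F) hG (amb_plus _) cs
  g1 := G1D_eq_top (wplus (n + 2) F) (toPOmega hG) (toPOmega_surjective hG) (adm_plus _) cs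
  cen := center_plus (p := p) hG
  le := DD_le (wplus (n + 2) F) hG cs
  tor := by
    rintro _ ⟨k, hk, rfl⟩
    have hk' : k.1 ∈ Tor (toFrame (wplus (n + 2) F)) (E (plusForm (n + 2) F)) := hk
    rw [mem_DD]
    exact ⟨⟨k.1, tor_le_DS _ hk'⟩, (conj_eq hG k).symm⟩
  norm := nk_norm (wplus (n + 2) F) hG (amb_plus _)
  full c hc := full_plus hG c hc

/-! ### the anti-automorphism -/

theorem swp_norm : swp (n + 2) F ∈ Subgroup.normalizer ((E (plusForm (n + 2) F) :
    Subgroup ((Fin (n + 2) ⊕ Fin (n + 2) → F) ≃ₗ[F] (Fin (n + 2) ⊕ Fin (n + 2) → F))) :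
      Set ((Fin (n + 2) ⊕ Fin (n + 2) → F) ≃ₗ[F] (Fin (n + 2) ⊕ Fin (n + 2) → F))) :=
  (QSim.of_O (swp_mem (n + 2) F)).norm

/-- the involution -/
noncomputable def om (hG : _root_.Cfsg.Agent.LieClassical.OrthTrans.Good (plusForm (n + 2) F)) : MulAut (Cfsg.POmega F ⇑(plusForm (n + 2) F)) :=
  qact (qm hG) ⟨swp (n + 2) F, swp_norm⟩

theorem om_sq (hG : _root_.Cfsg.Agent.LieClassical.OrthTrans.Good (plusForm (n + 2) F)) : om hG * om hG = 1 := by
  unfold om
  refine (map_mul (qact (qm hG)) _ _).symm.trans (Eq.trans (congrArg (qact (qm hG)) ?_) (map_one (qact (qm hG))))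
  apply Subtype.ext
  ext v z
  change v z.swap.swap = v z
  rw [Sum.swap_swap]

theorem om_X (hG : _root_.Cfsg.Agent.LieClassical.OrthTrans.Good (plusForm (n + 2) F)) {G : Type*} [Group G] {cs : CoxeterSystem (TypeD.M n) G}
    {z : Fin (n + 2) → ℤ} (hz : IsRoot cs (isCartan n) z) {k : Cfsg.POmega F ⇑(plusForm (n + 2) F)}
    (hk : k ∈ XD (wplus (n + 2) F) (toPOmega hG) z) : om hG k ∈ XD (wplus (n + 2) F) (toPOmega hG) (-z) := by
  have hob_ := (mem_XD (wplus (n + 2) F) hG hz k).1 hk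
  obtain ⟨a, rfl⟩ := hob_
  have e' : ee (-z) = wt (ng (pr z).1) + wt (ng (pr z).2) := by
    rw [ee_neg, pr_root hz, wt_ng, wt_ng]; abel
  have h1 : om hG (xc (wplus (n + 2) F) hG z a) = xb (wplus (n + 2) F) hG (neg (pr z).1, neg (pr z).2)
      (1 * 1 * (1 : F)⁻¹ * a) :=
    qact_xb (wplus (n + 2) F) hG (g := ⟨swp (n + 2) F, swp_norm⟩) (QSim.of_O (swp_mem (n + 2) F)).isSim
      (pr_ok z) (q' := (neg (pr z).1, neg (pr z).2)) (pr_ok z)
      (by rw [one_smul]; exact swp_b (n + 2) F _) (by rw [one_smul]; exact swp_b (n + 2) F _) a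
  rw [h1]
  refine ⟨⟨_, X_mem _ _ _ _⟩, ?_, rfl⟩
  refine Subgroup.mem_subgroupOf.2 ?_
  rw [WittRGDD.rg_eq (toFrame (wplus (n + 2) F)) (a := ng (pr z).1) (b := ng (pr z).2) (pr_ok z) e']
  exact ⟨_, rfl⟩

theorem ext_b {g g' : (Fin (n + 2) ⊕ Fin (n + 2) → F) ≃ₗ[F] (Fin (n + 2) ⊕ Fin (n + 2) → F)} {l : F}
    (e : ∀ x, g ((toFrame (wplus (n + 2) F)).b x) = l • g' ((toFrame (wplus (n + 2) F)).b x)) (v) : g v = l • g' v := by
  have h1 : (g : (Fin (n + 2) ⊕ Fin (n + 2) → F) →ₗ[F] (Fin (n + 2) ⊕ Fin (n + 2) → F)) =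
      l • (g' : (Fin (n + 2) ⊕ Fin (n + 2) → F) →ₗ[F] (Fin (n + 2) ⊕ Fin (n + 2) → F)) := by
    refine (Pi.basisFun F (Fin (n + 2) ⊕ Fin (n + 2))).ext fun j => ?_
    rw [Pi.basisFun_apply]
    cases j with
    | inl i => exact e (i, true)
    | inr i => exact e (i, false)
  exact LinearMap.congr_fun h1 v

theorem om_D (hG : _root_.Cfsg.Agent.LieClassical.OrthTrans.Good (plusForm (n + 2) F)) {d : MulAut (Cfsg.POmega F ⇑(plusForm (n + 2) F))}
    (hd : d ∈ DD (wplus (n + 2) F) hG) : om hG * d * (om hG)⁻¹ = d⁻¹ := by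
  have hob_ := (mem_DD _ hG).1 hd
  obtain ⟨g, rfl⟩ := hob_
  have hob_ := g.2
  obtain ⟨⟨l, hl⟩, hm⟩ := hob_
  unfold om
  refine (((map_mul (qact (qm hG)) _ _).trans (congrArg₂ (· * ·) (map_mul (qact (qm hG)) _ _) (map_inv (qact (qm hG)) _))).symm.trans ?_).trans (map_inv (qact (qm hG)) _)
  refine qact_smul (qm hG) (c := l) fun v => ?_
  refine ext_b (g := swp (n + 2) F * g.1 * (swp (n + 2) F)⁻¹) (g' := g.1⁻¹) (l := l) (fun x => ?_) v
  obtain ⟨a, ha0, ha⟩ := hm x
  obtain ⟨a', ha0', ha'⟩ := hm (neg x)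
  have ha1 : g.1 ((toFrame (wplus (n + 2) F)).b x) = a • (toFrame (wplus (n + 2) F)).b x := ha
  have ha2 : g.1 ((toFrame (wplus (n + 2) F)).b (neg x)) = a' • (toFrame (wplus (n + 2) F)).b (neg x) := ha'
  have h1 : a * a' = l := by
    have h2 := hl.isSim.sim ((toFrame (wplus (n + 2) F)).b x) ((toFrame (wplus (n + 2) F)).b (neg x))
    rw [ha1, ha2, HForm.smul_left, HForm.smul_right, (toFrame (wplus (n + 2) F)).hb_self_neg, eta, mul_one, mul_one] at h2
    exact h2
  have h2 : (swp (n + 2) F)⁻¹ ((toFrame (wplus (n + 2) F)).b x) = (toFrame (wplus (n + 2) F)).b (neg x) := by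
    have h3 : (swp (n + 2) F)⁻¹ (swp (n + 2) F ((toFrame (wplus (n + 2) F)).b (neg x))) =
        (toFrame (wplus (n + 2) F)).b (neg x) := (swp (n + 2) F).symm_apply_apply _
    rwa [swp_b, WittFrame.neg_neg] at h3
  have h3 : g.1⁻¹ ((toFrame (wplus (n + 2) F)).b x) = a⁻¹ • (toFrame (wplus (n + 2) F)).b x := by
    have h4 : g.1⁻¹ (g.1 ((toFrame (wplus (n + 2) F)).b x)) = (toFrame (wplus (n + 2) F)).b x := g.1.symm_apply_apply _
    conv_rhs => rw [← h4, ha1]
    rw [map_smul, smul_smul, inv_mul_cancel₀ ha0, one_smul]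
  change swp (n + 2) F (g.1 ((swp (n + 2) F)⁻¹ ((toFrame (wplus (n + 2) F)).b x))) =
    l • g.1⁻¹ ((toFrame (wplus (n + 2) F)).b x)
  rw [h2, h3, ha2, map_smul, swp_b, WittFrame.neg_neg, smul_smul, ← h1, mul_comm a, mul_assoc, mul_inv_cancel₀ ha0, mul_one]

include p in
/-- **the anti-automorphism** -/
theorem anti (hG : _root_.Cfsg.Agent.LieClassical.OrthTrans.Good (plusForm (n + 2) F)) {G : Type*} [Group G] (cs : CoxeterSystem (TypeD.M n) G) :
    ∃ φ : ↥(Cfsg.Agent.H928.Ad.Gad (DD (wplus (n + 2) F) hG)) → ↥(Cfsg.Agent.H928.Ad.Gad (DD (wplus (n + 2) F) hG)),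
      (∀ g, (φ g : MulAut (Cfsg.POmega F ⇑(plusForm (n + 2) F))) = om hG * (g : MulAut _)⁻¹ * (om hG)⁻¹) ∧
      Cfsg.Agent.H92.GG.Anti cs (isCartan n) (Cfsg.Agent.H928.Ad.Tad (DD (wplus (n + 2) F) hG))
        (Cfsg.Agent.H928.Ad.Xad (XD (wplus (n + 2) F) (toPOmega hG)) (DD (wplus (n + 2) F) hG)) φ :=
  (data (p := p) hG cs).anti (om_sq hG) (fun _ hz _ hk => om_X hG hz hk) (fun _ hd => om_D hG hd)

end Plus

end Cfsg.Agent.H553.AF.PlusD
end

-- part: H366/OC/PlusT
section
set_option linter.all false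
open scoped Cfsg.Agent.FastGrp

/-!
# S4829, own characteristic, `PΩ⁺_{2m}(q)`, `q` odd, `m ≥ 4`: the element of the torus (helper366)

* `exists_tE` : `t ∈ TE W` with scalars `ν` on the simple root group `1` and `1` on the others;
* `prod_eta` : `∏ i, eta (aE W i t) = -1` if `ν` is not a square.
-/

set_option autoImplicit false
set_option linter.unusedSectionVars false
set_option linter.unusedFintypeInType false

namespace Cfsg.Agent.H366.OC

open Cfsg QuadraticMap Cfsg.Agent.Nodes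
open Cfsg.Agent.ChevalleyStructure.CoxeterGeom Cfsg.Agent.Tits.Roots Cfsg.Agent.Tits.Core
open Cfsg.Agent.Nodes.Comb Cfsg.Agent.Nodes.Reps Cfsg.Agent.Nodes.BNOf Cfsg.Agent.Nodes.RGDLib Cfsg.Agent.Nodes.Bruhat
open Cfsg.Agent.Nodes.WittRoot (Mono Amb XG)
open Cfsg.Agent.Nodes.WittRGD (Tor mem_Tor b_ne_zero Amb.eq_one_of_fix)
open Cfsg.Agent.Nodes.WittAll Cfsg.Agent.Nodes.WittInst
open Cfsg.Agent.Nodes.TypeD
open Cfsg.Agent.TitsThree Cfsg.Agent.TitsThree.Siegel Cfsg.Agent.TitsThree.SiegelGen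
  Cfsg.Agent.TitsThree.WittFrame Cfsg.Agent.TitsThree.WBridge Cfsg.Agent.TitsThree.WittWeyl
  Cfsg.Agent.TitsThree.KSideO
open Cfsg.Agent.LieClassical Cfsg.Agent.LieClassical.OrthCore Cfsg.Agent.LieClassical.OrthForms
open Cfsg.Agent.H151.OwnO Cfsg.Agent.H712.OC

variable {ι : Type} [Fintype ι] [DecidableEq ι] {F : Type*} [Field F] {Q : QuadraticForm F (ι → F)} {n : ℕ}
  (W : WFrame (PO Q) (n + 2))

/-- **the element of the torus** -/
theorem exists_tE (hn : 2 ≤ n) (hA : Amb (toFrame W) (E Q)) (ν : Fˣ) :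
    ∃ t : ↥(TE W), ∀ i : Fin (n + 2), aE W i t = if (i : ℕ) = 1 then ν else 1 := by
  have h01 : ((0 : Fin (n + 2)), true).1 ≠ ((1 : Fin (n + 2)), true).1 := by simp
  have hν := ν.ne_zero
  let t : ↥(TE W) := ⟨hX W hA (0, true) (1, true) ν, hX_mem W hA h01 hν⟩
  have ev : ∀ k : Fin (n + 2), evU W (k, true) t = if (k : ℕ) ≤ 1 then ν else 1 := by
    intro k
    apply Units.ext
    rw [coe_evU]
    by_cases hk : (k : ℕ) ≤ 1
    · rw [if_pos hk]
      apply ev_of
      rcases (by omega : (k : ℕ) = 0 ∨ (k : ℕ) = 1) with h | h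
      · have : k = 0 := Fin.ext (by rw [h]; rfl)
        subst this
        exact hX_x W hA h01 hν
      · have : k = 1 := Fin.ext (by rw [h]; rfl)
        subst this
        exact hX_y W hA h01 hν
    · rw [if_neg hk]
      apply ev_of
      rw [Units.val_one, one_smul]
      refine hX_of_ne W hA h01 ?_ ?_ _
      · intro h
        apply hk
        have : (k : ℕ) = 0 := congrArg Fin.val h
        omega
      · intro h
        apply hk
        have : (k : ℕ) = 1 := congrArg Fin.val h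
        omega
  refine ⟨t, fun i => ?_⟩
  by_cases hi : (i : ℕ) + 1 < n + 2
  · rw [aE_up W i hi, ev, ev]
    have h2 : (((⟨(i : ℕ) + 1, hi⟩ : Fin (n + 2)) : ℕ)) = i + 1 := rfl
    rw [h2]
    rcases (by omega : (i : ℕ) = 0 ∨ (i : ℕ) = 1 ∨ 2 ≤ (i : ℕ)) with h | h | h
    · rw [h]; simp
    · rw [h]; simp
    · rw [if_neg (by omega), if_neg (by omega), if_neg (by omega)]; simp
  · rw [aE_last W i hi, ev, ev]
    have h2 : ((pd n : Fin (n + 2)) : ℕ) = n := rfl
    rw [h2, if_neg (by omega), if_neg (by omega), if_neg (by omega), mul_one]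

omit [Fintype ι] [DecidableEq ι] in
/-- the torus on the root element of any pair of frame vectors -/
theorem conj_pair {t : ↥(E Q)} (ht : t ∈ TE W) {x y : Fin (n + 2) × Bool} (h : x.1 ≠ y.1) (s : F) :
    t.1 * (toFrame W).X x y s * t.1⁻¹ = (toFrame W).X x y (ev W x t.1 * ev W y t.1 * s) := by
  have h1 : (HO Q).IsIso t.1 := fun v w => polar_map (E_le_O t.2) v w
  have h2 := conj_X (toFrame W) h1 h h (apply_b W ht x) (apply_b W ht y) s
  rw [h2, H151.OwnO.eta]
  congr 1
  show _ * (RingEquiv.refl F) _ * (1 : F)⁻¹ * 1 * s = _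
  rw [RingEquiv.refl_apply, inv_one, mul_one, mul_one]

omit [Fintype ι] [DecidableEq ι] in
/-- the torus on the simple root group `i`, in the coordinates of the pair `(i, true), nx i` or of the swapped pair -/
theorem conj_sr {t : ↥(E Q)} (ht : t ∈ TE W) (i : Fin (n + 2)) {x y : Fin (n + 2) × Bool}
    (h : ((i, true) = x ∧ nx i = y) ∨ ((i, true) = y ∧ nx i = x)) (s : F) :
    t.1 * (toFrame W).X x y s * t.1⁻¹ = (toFrame W).X x y ((aE W i ⟨t, ht⟩ : F) * s) := by
  have e1 : (aE W i ⟨t, ht⟩ : F) = ev W (i, true) t.1 * ev W (nx i) t.1 := rfl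
  rcases h with ⟨rfl, rfl⟩ | ⟨rfl, rfl⟩
  · rw [conj_pair W ht (ok_nx i), e1]
  · rw [conj_pair W ht (Ne.symm (ok_nx i)), e1, mul_comm (ev W (nx i) t.1)]

/-- the product of the signs -/
theorem prod_eta [Finite F] (hF : Odd (Nat.card F)) (hn : 2 ≤ n) (hA : Amb (toFrame W) (E Q)) :
    ∃ t : ↥(TE W), ∏ i, eta F (aE W i t) = -1 := by
  obtain ⟨ν, hν⟩ := IsCyclic.exists_generator (α := Fˣ)
  obtain ⟨t, ht⟩ := exists_tE W hn hA ν
  refine ⟨t, ?_⟩
  rw [Finset.prod_eq_single (1 : Fin (n + 2))]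
  · rw [ht, if_pos (by rfl)]
    exact eta_gen hF hν
  · intro i _ hi
    rw [ht, if_neg, map_one]
    intro h
    exact hi (Fin.ext (by rw [h]; rfl))
  · intro h
    exact absurd (Finset.mem_univ _) h

end Cfsg.Agent.H366.OC
end
end
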